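import Groth.Agent.RetractRat26.LatticeTorus
import Groth.Agent.NoName5.Basic
import Mathlib.RingTheory.AlgebraicIndependent.TranscendenceBasis
import Mathlib.RingTheory.Localization.FractionRing
import Mathlib.Algebra.Group.UniqueProds.Basic

/-! # Invariant coordinates and invariant fractions -/

set_option linter.style.haveILetI false
set_option linter.unusedSectionVars false
set_option autoImplicit false
set_option backward.isDefEq.respectTransparency.types false
universe u

open TensorProduct Groth.Agent.IsoTriv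

noncomputable section

namespace Groth.Agent.RetractRat26

variable {k L F : Type u} [Field k] [Field L] [Algebra k L] [FiniteDimensional k L] [IsGalois k L]
  [Field F] [Algebra k F] [Algebra L F] [IsScalarTower k L F]

open IntermediateField.algebraAdjoinAdjoin in
/-- Coordinates of the invariant field of a field generated by permuted coordinates. -/
theorem exists_coords (ψ : (L ≃ₐ[k] L) →* (F ≃ₐ[k] F))
    (hψ : ∀ σ l, ψ σ (algebraMap L F l) = algebraMap L F (σ l)) {I : Type u} [Finite I] (y : I → F)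
    (hperm : ∀ σ i, ∃ j, ψ σ (y i) = y j) (hgen : IntermediateField.adjoin L (Set.range y) = ⊤)
    (x : I → F) (hx : AlgebraicIndependent L x) :
    ∃ t : I → F, (∀ σ i, ψ σ (t i) = t i) ∧ AlgebraicIndependent k t ∧
      ∀ z : F, (∀ σ, ψ σ z = z) → z ∈ IntermediateField.adjoin k (Set.range t) := by
  haveI : Algebra.IsAlgebraic (IntermediateField.adjoin L (Set.range y)) F := by
    rw [hgen]
    exact ⟨fun z => isAlgebraic_algebraMap (⟨z, trivial⟩ : (⊤ : IntermediateField L F))⟩
  haveI : Algebra.IsAlgebraic (Algebra.adjoin L (Set.range y)) (IntermediateField.adjoin L (Set.range y)) := by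
    exact IsLocalization.isAlgebraic _ (nonZeroDivisors _)
  haveI : Algebra.IsAlgebraic (Algebra.adjoin L (Set.range y)) F :=
    Algebra.IsAlgebraic.trans (Algebra.adjoin L (Set.range y)) (IntermediateField.adjoin L (Set.range y)) F
  have hy : AlgebraicIndependent L y :=
    (Algebra.IsAlgebraic.isTranscendenceBasis_of_le_trdeg_of_finite L y hx.cardinalMk_le_trdeg).1
  let K : IntermediateField k F := (IsScalarTower.toAlgHom k L F).fieldRange
  let e : L ≃+* K := (AlgEquiv.ofInjectiveField (IsScalarTower.toAlgHom k L F)).toRingEquiv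
  have he : ∀ l, (e l : F) = algebraMap L F l := fun l => rfl
  have hyK : AlgebraicIndependent K y :=
    AlgebraicIndependent.ringHom_of_comp_eq (e : L →+* K) (RingHom.id F) hy e.surjective Function.injective_id
      (RingHom.ext fun l => he l)
  have htop : IntermediateField.adjoin K (Set.range y) = ⊤ := by
    refine eq_top_iff.2 fun z hz0 => ?_
    have hz : z ∈ IntermediateField.adjoin L (Set.range y) := by rw [hgen]; trivial
    clear hz0
    induction hz using IntermediateField.adjoin_induction with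
    | mem w hw => exact IntermediateField.subset_adjoin _ _ hw
    | algebraMap l => exact (IntermediateField.adjoin K (Set.range y)).algebraMap_mem (e l)
    | add a b _ _ ha hb => exact add_mem ha hb
    | inv a _ ha => exact inv_mem ha
    | mul a b _ _ ha hb => exact mul_mem ha hb
  have hK : ∀ τ ∈ ψ.range, ∀ w ∈ K, τ w ∈ K := by
    rintro _ ⟨σ, rfl⟩ _ ⟨l, rfl⟩
    exact ⟨σ l, (hψ σ l).symm⟩
  have hfaith : ∀ τ ∈ ψ.range, (∀ w ∈ K, τ w = w) → τ = 1 := by
    rintro _ ⟨σ, rfl⟩ hσ
    have : σ = 1 := AlgEquiv.ext fun l => (algebraMap L F).injective (by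
      rw [← hψ]
      exact hσ _ ⟨l, rfl⟩)
    rw [this, map_one]
  haveI : Finite ψ.range := Finite.of_surjective ψ.rangeRestrict ψ.rangeRestrict_surjective
  obtain ⟨t, ht, htF⟩ := NoName5.exists_invariant_coords ψ.range K hK hfaith y hyK htop (by
    rintro _ ⟨σ, rfl⟩ i
    obtain ⟨j, hj⟩ := hperm σ i
    rw [hj]
    exact Submodule.subset_span ⟨j, rfl⟩)
  have hfix : ∀ z : F, z ∈ IntermediateField.fixedField ψ.range ↔ ∀ σ, ψ σ z = z := fun z =>
    ⟨fun h σ => h ⟨ψ σ, σ, rfl⟩, fun h => by rintro ⟨_, σ, rfl⟩; exact h σ⟩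
  have hbot : ∀ w ∈ K ⊓ IntermediateField.fixedField ψ.range, ∃ c : k, algebraMap k F c = w := by
    rintro _ ⟨⟨l, rfl⟩, hl⟩
    obtain ⟨c, hc⟩ := (IsGalois.mem_range_algebraMap_iff_fixed (F := k) l).2 fun σ =>
      (algebraMap L F).injective ((hψ σ l).symm.trans ((hfix _).1 hl σ))
    exact ⟨c, by rw [IsScalarTower.algebraMap_apply k L F, hc]; rfl⟩
  have htfix : ∀ i, t i ∈ IntermediateField.fixedField ψ.range := fun i => by
    rw [← htF, IntermediateField.mem_restrictScalars]
    exact IntermediateField.subset_adjoin _ _ ⟨i, rfl⟩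
  set K₀ := K ⊓ IntermediateField.fixedField ψ.range with hK₀
  have htk : AlgebraicIndependent k t :=
    AlgebraicIndependent.of_ringHom_of_comp_eq (algebraMap k K₀) (RingHom.id F) (x := t) (S := K₀) (B := F)
      ht (algebraMap k K₀).injective (RingHom.ext fun c => rfl)
  refine ⟨t, fun σ i => (hfix _).1 (htfix i) σ, htk, fun z hz => ?_⟩
  have hz' : z ∈ IntermediateField.adjoin (↥K₀) (Set.range t) := by
    have h := (hfix z).2 hz
    rw [← htF] at h
    exact h
  clear hz
  induction hz' using IntermediateField.adjoin_induction with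
  | mem w hw => exact IntermediateField.subset_adjoin _ _ hw
  | algebraMap w =>
    obtain ⟨c, hc⟩ := hbot w w.2
    exact (hc ▸ IntermediateField.algebraMap_mem _ c : (w : F) ∈ _)
  | add a b _ _ ha hb => exact add_mem ha hb
  | inv a _ ha => exact inv_mem ha
  | mul a b _ _ ha hb => exact mul_mem ha hb

variable {Q : Type} [CommGroup Q]

theorem commutes_actR (a : (L ≃ₐ[k] L) →* Monoid.End Q) (σ : L ≃ₐ[k] L) (c : k) :
    actR σ (a σ) (algebraMap k (MonoidAlgebra L Q) c) = algebraMap k (MonoidAlgebra L Q) c := by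
  rw [algebraMap_k]
  exact (actR_single σ _ 1 _).trans (by rw [map_one, σ.commutes])

/-- The semilinear map as an algebra automorphism. -/
def actAlg (a : (L ≃ₐ[k] L) →* Monoid.End Q) (σ : L ≃ₐ[k] L) : MonoidAlgebra L Q ≃ₐ[k] MonoidAlgebra L Q :=
  AlgEquiv.ofAlgHom
    ({ actR σ (a σ) with commutes' := commutes_actR a σ } : MonoidAlgebra L Q →ₐ[k] MonoidAlgebra L Q)
    ({ actR σ⁻¹ (a σ⁻¹) with commutes' := commutes_actR a σ⁻¹ } : MonoidAlgebra L Q →ₐ[k] MonoidAlgebra L Q)
    (AlgHom.ext fun x => by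
      show actR σ (a σ) (actR σ⁻¹ (a σ⁻¹) x) = x
      rw [← actR_comp, mul_inv_cancel, show (a σ).comp (a σ⁻¹) = a (σ * σ⁻¹) from (map_mul a σ σ⁻¹).symm,
        mul_inv_cancel, map_one]
      exact actR_one x)
    (AlgHom.ext fun x => by
      show actR σ⁻¹ (a σ⁻¹) (actR σ (a σ) x) = x
      rw [← actR_comp, inv_mul_cancel, show (a σ⁻¹).comp (a σ) = a (σ⁻¹ * σ) from (map_mul a σ⁻¹ σ).symm,
        inv_mul_cancel, map_one]
      exact actR_one x)

theorem actAlg_apply (a : (L ≃ₐ[k] L) →* Monoid.End Q) (σ : L ≃ₐ[k] L) (x : MonoidAlgebra L Q) :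
    actAlg a σ x = actR σ (a σ) x := rfl

/-- The action on the field of fractions. -/
theorem exists_frac_action [Algebra (MonoidAlgebra L Q) F] [IsScalarTower L (MonoidAlgebra L Q) F]
    [IsFractionRing (MonoidAlgebra L Q) F] (a : (L ≃ₐ[k] L) →* Monoid.End Q) :
    ∃ ψ : (L ≃ₐ[k] L) →* (F ≃ₐ[k] F), (∀ σ l, ψ σ (algebraMap L F l) = algebraMap L F (σ l)) ∧
      ∀ σ x, ψ σ (algebraMap (MonoidAlgebra L Q) F x) = algebraMap (MonoidAlgebra L Q) F (actR σ (a σ) x) := by
  haveI : IsScalarTower k (MonoidAlgebra L Q) F := IsScalarTower.of_algebraMap_eq fun c => by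
    rw [IsScalarTower.algebraMap_apply k L F, IsScalarTower.algebraMap_apply k L (MonoidAlgebra L Q),
      ← IsScalarTower.algebraMap_apply L (MonoidAlgebra L Q) F]
  let f : (L ≃ₐ[k] L) → (F ≃ₐ[k] F) := fun σ =>
    AlgEquiv.ofRingEquiv (f := IsFractionRing.ringEquivOfRingEquiv (K := F) (L := F) (actAlg a σ).toRingEquiv)
      fun c => by
        rw [IsScalarTower.algebraMap_apply k (MonoidAlgebra L Q) F, IsFractionRing.ringEquivOfRingEquiv_algebraMap]
        exact congrArg _ ((actAlg a σ).commutes c)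
  have hf : ∀ σ x, f σ (algebraMap (MonoidAlgebra L Q) F x) =
      algebraMap (MonoidAlgebra L Q) F (actR σ (a σ) x) := fun σ x =>
    IsFractionRing.ringEquivOfRingEquiv_algebraMap (K := F) (L := F) (actAlg a σ).toRingEquiv x
  have hext : ∀ g g' : F ≃ₐ[k] F, (∀ x, g (algebraMap (MonoidAlgebra L Q) F x) =
      g' (algebraMap (MonoidAlgebra L Q) F x)) → g = g' := fun g g' h => AlgEquiv.ext fun z => by
    obtain ⟨p, q, -, rfl⟩ := IsFractionRing.div_surjective (A := MonoidAlgebra L Q) z
    rw [map_div₀, map_div₀, h, h]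
  refine ⟨{ toFun := f
            map_one' := hext _ _ fun x => by rw [hf, map_one, AlgEquiv.one_apply]; exact congrArg _ (actR_one x)
            map_mul' := fun σ τ => hext _ _ fun x => by
              rw [AlgEquiv.mul_apply, hf, hf, hf, map_mul]; exact congrArg _ (actR_comp σ τ _ _ x) },
    fun σ l => ?_, hf⟩
  rw [IsScalarTower.algebraMap_apply L (MonoidAlgebra L Q) F]
  refine (hf σ _).trans ?_
  rw [actR_algebraMap, ← IsScalarTower.algebraMap_apply]

/-- Invariant fractions are fractions of invariants. -/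
theorem exists_fraction_of_fixed [Algebra (MonoidAlgebra L Q) F] [IsFractionRing (MonoidAlgebra L Q) F]
    [IsDomain (MonoidAlgebra L Q)] (a : (L ≃ₐ[k] L) →* Monoid.End Q)
    {D : Type u} [CommRing D] [Algebra k D] (π : D →ₐ[k] MonoidAlgebra L Q)
    (hπ : Function.Bijective (extHom (R := L) π)) (hfix : ∀ σ d, actR σ (a σ) (π d) = π d)
    (ψ : (L ≃ₐ[k] L) →* (F ≃ₐ[k] F))
    (hψ : ∀ σ x, ψ σ (algebraMap (MonoidAlgebra L Q) F x) = algebraMap (MonoidAlgebra L Q) F (actR σ (a σ) x))
    {z : F} (hz : ∀ σ, ψ σ z = z) :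
    ∃ p q, z = algebraMap (MonoidAlgebra L Q) F (π p) / algebraMap (MonoidAlgebra L Q) F (π q) := by
  classical
  obtain ⟨p, q, hq, rfl⟩ := IsFractionRing.div_surjective (A := MonoidAlgebra L Q) z
  have hq0 : q ≠ 0 := nonZeroDivisors.ne_zero hq
  let R := ∏ σ ∈ Finset.univ.erase (1 : L ≃ₐ[k] L), actR σ (a σ) q
  have hprod : q * R = ∏ σ : L ≃ₐ[k] L, actR σ (a σ) q := by
    rw [← Finset.mul_prod_erase _ _ (Finset.mem_univ (1 : L ≃ₐ[k] L)), map_one]
    exact congrArg (· * R) (actR_one q).symm
  have hN : ∀ τ : L ≃ₐ[k] L, actR τ (a τ) (q * R) = q * R := fun τ => by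
    rw [hprod, map_prod]
    refine Fintype.prod_equiv (Equiv.mulLeft τ) _ _ fun σ => ?_
    rw [Equiv.coe_mulLeft, map_mul]
    exact (actR_comp τ σ _ _ q).symm
  have hR : q * R ≠ 0 := by
    rw [hprod]
    refine Finset.prod_ne_zero_iff.2 fun σ _ h => hq0 ?_
    have h1 := congrArg (actAlg a σ).symm h
    rw [map_zero] at h1
    exact ((actAlg a σ).symm_apply_apply q).symm.trans h1
  have hinj := IsFractionRing.injective (MonoidAlgebra L Q) F
  have hz1 : algebraMap _ F p / algebraMap (MonoidAlgebra L Q) F q = algebraMap _ F (p * R) / algebraMap _ F (q * R) := by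
    rw [map_mul, map_mul, mul_div_mul_right]
    exact (map_ne_zero_iff _ hinj).2 (right_ne_zero_of_mul hR)
  rw [hz1] at hz ⊢
  obtain ⟨p', hp'⟩ := exists_of_actR_fixed a π hπ hfix (p * R) fun τ => hinj (by
    have h := hz τ
    rw [map_div₀, hψ, hψ, hN, div_left_inj' ((map_ne_zero_iff _ hinj).2 hR)] at h
    exact h)
  obtain ⟨q', hq'⟩ := exists_of_actR_fixed a π hπ hfix (q * R) hN
  exact ⟨p', q', by rw [hp', hq']⟩

/-- Monomials of independent exponents are independent. -/
theorem algebraicIndependent_monomial [Algebra (MonoidAlgebra L Q) F] [IsScalarTower L (MonoidAlgebra L Q) F]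
    [IsFractionRing (MonoidAlgebra L Q) F] {I : Type u} [Fintype I] (e : (I → ℤ) →+ Additive Q)
    (he : Function.Injective e) [DecidableEq I] :
    AlgebraicIndependent L fun i : I =>
      algebraMap (MonoidAlgebra L Q) F (MonoidAlgebra.single (Additive.toMul (e (Pi.single i 1))) 1) := by
  rw [algebraicIndependent_iff_injective_aeval]
  let emb : Multiplicative (I →₀ ℕ) →* Q :=
    { toFun := fun d => Additive.toMul (e fun i => ((Multiplicative.toAdd d) i : ℤ))
      map_one' := by
        have : (fun i => (((Multiplicative.toAdd (1 : Multiplicative (I →₀ ℕ))) i : ℕ) : ℤ)) = 0 := funext fun i => by simp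
        rw [this, map_zero, toMul_zero]
      map_mul' := fun d d' => by
        rw [← toMul_add, ← map_add]
        congr 2 }
  have hemb : Function.Injective emb := fun d d' h =>
    Multiplicative.toAdd.injective (Finsupp.ext fun i => Int.natCast_inj.1 (congrFun (he (Additive.toMul.injective h)) i))
  let f : MvPolynomial I L →+* F := (algebraMap (MonoidAlgebra L Q) F).comp
    ((MonoidAlgebra.mapDomainRingHom L emb).comp (AddMonoidAlgebra.toMultiplicative L (I →₀ ℕ)).toRingHom)
  have h : (MvPolynomial.aeval fun i : I =>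
      algebraMap (MonoidAlgebra L Q) F (MonoidAlgebra.single (Additive.toMul (e (Pi.single i 1))) 1) :
      MvPolynomial I L →ₐ[L] F).toRingHom = f := by
    refine MvPolynomial.ringHom_ext (fun c => ?_) (fun i => ?_)
    · simp only [f, AlgHom.toRingHom_eq_coe, RingHom.coe_coe, RingHom.comp_apply, MvPolynomial.aeval_C]
      rw [IsScalarTower.algebraMap_apply L (MonoidAlgebra L Q) F, algebraMap_eq_single]
      congr 1
      simp [MvPolynomial.C_apply, MvPolynomial.monomial]
    · simp only [f, AlgHom.toRingHom_eq_coe, RingHom.coe_coe, RingHom.comp_apply, MvPolynomial.aeval_X]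
      congr 1
      have : (fun j => (((Finsupp.single i 1 : I →₀ ℕ) j : ℕ) : ℤ)) = Pi.single i 1 := funext fun j => by
        by_cases hj : j = i <;> simp [hj, Pi.single_apply, Finsupp.single_apply, eq_comm]
      simp [MvPolynomial.X, MvPolynomial.monomial, emb, this]
  intro p q hpq
  have h' := fun r => DFunLike.congr_fun h r
  have : f p = f q := (h' p).symm.trans (hpq.trans (h' q))
  exact (AddMonoidAlgebra.toMultiplicative L (I →₀ ℕ)).injective
    (MonoidAlgebra.mapDomain_injective hemb (IsFractionRing.injective (MonoidAlgebra L Q) F this))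

end Groth.Agent.RetractRat26
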