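import Groth.Agent.RetractRat26.Presentation
import Mathlib.AlgebraicGeometry.AffineScheme

/-! # Retractions from lifting along discrete valuation rings -/

set_option autoImplicit false
set_option linter.style.haveILetI false
set_option backward.isDefEq.respectTransparency.types false
open CategoryTheory AlgebraicGeometry
open scoped TensorProduct
universe u

namespace Groth.Agent.RetractRat26

/-- Lifting to discrete valuation rings gives a retraction from a basic open of an affine space. -/
theorem exists_retract_of_dvr (k : Type u) [Field k] (H : Type u) [CommRing H] [IsDomain H] [Algebra k H]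
    [Algebra.FiniteType k H] [IsReduced (AlgebraicClosure k ⊗[k] H)] {X : Scheme.{u}} (f : X ⟶ Spec (CommRingCat.of k))
    (j : Spec (CommRingCat.of H) ≅ X) (hj : j.hom ≫ f = Spec.map (CommRingCat.ofHom (algebraMap k H)))
    (h : ∀ (A : Type u) [CommRing A] [IsDomain A] [IsDiscreteValuationRing A] [Algebra k A]
        (u : Spec (CommRingCat.of (IsLocalRing.ResidueField A)) ⟶ X),
        u ≫ f = Spec.map (CommRingCat.ofHom ((IsLocalRing.residue A).comp (algebraMap k A))) →
        ∃ s : Spec (CommRingCat.of A) ⟶ X, s ≫ f = Spec.map (CommRingCat.ofHom (algebraMap k A)) ∧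
          Spec.map (CommRingCat.ofHom (IsLocalRing.residue A)) ≫ s = u) :
    ∃ (n : ℕ) (h' : H) (g : MvPolynomial (Fin n) k) (α : Localization.Away g →ₐ[k] Localization.Away h')
      (β : Localization.Away h' →ₐ[k] Localization.Away g), h' ≠ 0 ∧ α.comp β = AlgHom.id k _ := by
  classical
  let F := FractionRing H
  haveI := Groth.Agent.RetractRat26.essFiniteType_fractions (k := k) (H := H) (F := F)
  obtain ⟨sb, hsb, hsep⟩ := Groth.Agent.RetractRat26.exists_sepBasis (k := k) H (F := F)
  obtain ⟨n, φ, hpr, hne, hfrac⟩ := Groth.Agent.RetractRat26.exists_presentation sb hsb hsep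
  set p := RingHom.ker φ with hp
  haveI : p.IsPrime := RingHom.ker_isPrime _
  let A := Localization.AtPrime p
  haveI : IsDiscreteValuationRing A := Groth.Agent.RetractRat26.isDiscreteValuationRing_atPrime p hpr hne
  let ψ : A →ₐ[k] F :=
    IsLocalization.liftAlgHom (M := p.primeCompl) (f := φ) (fun y => IsUnit.mk0 _ (fun h => y.2 h))
  have hψ : ∀ r, ψ (algebraMap _ A r) = φ r := fun r => IsLocalization.lift_eq _ r
  have hψmk : ∀ (r : MvPolynomial (Fin (n + 1)) k) (b : p.primeCompl), ψ (IsLocalization.mk' A r b) * φ b = φ r := by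
    intro r b
    rw [← hψ b, ← map_mul, IsLocalization.mk'_spec, hψ]
  have hψs : Function.Surjective ψ := fun z => by
    obtain ⟨a, b, hb, rfl⟩ := hfrac z
    exact ⟨IsLocalization.mk' A a (⟨b, hb⟩ : p.primeCompl), eq_div_of_mul_eq hb (hψmk a ⟨b, hb⟩)⟩
  haveI : IsLocalHom ψ.toRingHom := IsLocalHom.of_surjective _ hψs
  let κ := IsLocalRing.ResidueField A
  let ρ : κ →+* F := IsLocalRing.ResidueField.lift ψ.toRingHom
  have hρ : Function.Bijective ρ := ⟨ρ.injective, fun z => by
    obtain ⟨a, rfl⟩ := hψs z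
    exact ⟨IsLocalRing.residue A a, rfl⟩⟩
  let gη : H →+* κ := (RingEquiv.ofBijective ρ hρ).symm.toRingHom.comp (algebraMap H F)
  have hη : ∀ a, ρ (gη a) = algebraMap H F a := fun a => (RingEquiv.ofBijective ρ hρ).apply_symm_apply _
  have hηk : gη.comp (algebraMap k H) = (IsLocalRing.residue A).comp (algebraMap k A) := RingHom.ext fun c => hρ.1 <| by
    rw [RingHom.comp_apply, hη, ← IsScalarTower.algebraMap_apply]
    exact (ψ.commutes c).symm
  obtain ⟨s, hs1, hs2⟩ := h A (Spec.map (CommRingCat.ofHom gη) ≫ j.hom) (by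
    rw [Category.assoc, hj, ← Spec.map_comp, ← CommRingCat.ofHom_comp, hηk])
  let σ₀ := Spec.preimage (s ≫ j.inv)
  have hσ₀ : Spec.map σ₀ = s ≫ j.inv := Spec.map_preimage _
  have hσk : σ₀.hom.comp (algebraMap k H) = algebraMap k A := by
    refine congrArg CommRingCat.Hom.hom (Spec.map_injective ?_ : CommRingCat.ofHom (algebraMap k H) ≫ σ₀ = CommRingCat.ofHom (algebraMap k A))
    rw [Spec.map_comp, hσ₀, Category.assoc, ← hj, Iso.inv_hom_id_assoc, hs1]
  have hσr : ∀ a, IsLocalRing.residue A (σ₀.hom a) = gη a := fun a => by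
    have h1 : σ₀ ≫ CommRingCat.ofHom (IsLocalRing.residue A) = CommRingCat.ofHom gη := by
      apply Spec.map_injective
      rw [Spec.map_comp, hσ₀, ← Category.assoc, hs2, Category.assoc, Iso.hom_inv_id, Category.comp_id]
    exact DFunLike.congr_fun (congrArg CommRingCat.Hom.hom h1) a
  let σ : H →ₐ[k] A := { σ₀.hom with commutes' := fun c => DFunLike.congr_fun hσk c }
  obtain ⟨h', g, α, β, hh, hαβ⟩ := Groth.Agent.RetractRat26.exists_retract (k := k) φ p rfl σ (fun a r b hab => by
    have h1 : ψ (σ a) = algebraMap H F a := by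
      rw [← hη, ← hσr]
      rfl
    rw [← hψmk r b, ← h1, hab])
  exact ⟨n + 1, h', g, α, β, hh, hαβ⟩

end Groth.Agent.RetractRat26
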