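import Groth.Agent.RetractRat26.UnitVal
import Groth.Agent.RetractRat26.FieldCoords
import Mathlib.LinearAlgebra.FreeModule.PID
import Mathlib.LinearAlgebra.Pi

/-! # The lattice completing a retract rational torus to a rational one -/

set_option linter.style.haveILetI false
set_option linter.unusedSectionVars false
set_option autoImplicit false
set_option backward.isDefEq.respectTransparency.types false
universe u

open Groth.Agent.IsoTriv
open scoped TensorProduct

noncomputable section

namespace Groth.Agent.RetractRat26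

/-- Lifting powers of coordinates. -/
theorem hom_pi_eq_prod {I : Type u} [Fintype I] [DecidableEq I] {C : Type*} [CommGroup C]
    (f : (I → ℤ) →+ Additive C) (w : I → ℤ) :
    Additive.toMul (f w) = ∏ i, Additive.toMul (f (Pi.single i 1)) ^ w i := by
  conv_lhs => rw [← Finset.univ_sum_single w]
  rw [map_sum, toMul_sum]
  refine Finset.prod_congr rfl fun i _ => ?_
  rw [← toMul_zsmul, ← map_zsmul, ← Pi.single_smul, smul_eq_mul, mul_one]

/-- A lattice surjected by a permutation module with kernel the given one. -/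
theorem exists_kernel_lattice {G : Type u} [Group G] [Finite G] {r : ℕ}
    (aN : G →* Monoid.End (Multiplicative (Fin r → ℤ))) {B : Type u} [Fintype B] (p : G →* Equiv.Perm B)
    (v : Multiplicative (Fin r → ℤ) → B → ℤ) (hv : ∀ m m', v (m * m') = v m + v m')
    (hveq : ∀ σ m b, v (aN σ m) (p σ b) = v m b) :
    ∃ (I : Type u) (_ : Fintype I) (pI : G →* Equiv.Perm I) (iB : B → I) (d : ℕ)
      (aM : G →* Monoid.End (Multiplicative (Fin d → ℤ))) (κ : (I → ℤ) →+ (Fin d → ℤ))
      (ρ : (I → ℤ) →+ (Fin r → ℤ)) (io : (Fin r → ℤ) → (I → ℤ)),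
      Function.Injective iB ∧ (∀ σ b, pI σ (iB b) = iB (p σ b)) ∧ Function.Surjective κ ∧
      (∀ σ (w : I → ℤ), aM σ (Multiplicative.ofAdd (κ w)) = Multiplicative.ofAdd (κ fun i => w ((pI σ).symm i))) ∧
      (∀ z b, io z (iB b) = v (Multiplicative.ofAdd z) b) ∧ (∀ z, κ (io z) = 0) ∧
      (∀ w, κ w = 0 → ρ w = 0 → w = 0) := by
  classical
  haveI := Fintype.ofFinite G
  let I : Type u := B ⊕ (G × Fin r)
  let pI : G →* Equiv.Perm I := MonoidHom.toHomPerm
    { toFun := fun σ => Sum.map (p σ) (fun x => (σ * x.1, x.2))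
      map_one' := funext fun i => by rcases i with b | ⟨τ, j⟩ <;> simp <;> rfl
      map_mul' := fun σ τ => funext fun i => by
        rcases i with b | ⟨τ', j⟩ <;> simp [Function.End.mul_def, mul_assoc] }
  have hpl : ∀ σ b, pI σ (Sum.inl b) = Sum.inl (p σ b) := fun σ b => rfl
  have hpr : ∀ σ τ j, pI σ (Sum.inr (τ, j)) = Sum.inr (σ * τ, j) := fun σ τ j => rfl
  have hv1 : v 1 = 0 := by
    have h := hv 1 1
    rw [one_mul] at h
    exact left_eq_add.1 h
  let io : (Fin r → ℤ) →+ (I → ℤ) :=
    { toFun := fun z => Sum.elim (v (Multiplicative.ofAdd z))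
        (fun x => Multiplicative.toAdd (aN x.1⁻¹ (Multiplicative.ofAdd z)) x.2)
      map_zero' := funext fun i => by rcases i with b | ⟨τ, j⟩ <;> simp [hv1]
      map_add' := fun z z' => funext fun i => by rcases i with b | ⟨τ, j⟩ <;> simp [hv] }
  have hio : ∀ σ z (i : I), io (Multiplicative.toAdd (aN σ (Multiplicative.ofAdd z))) (pI σ i) = io z i := by
    intro σ z i
    rcases i with b | ⟨τ, j⟩
    · exact hveq σ _ b
    · rw [hpr]
      show Multiplicative.toAdd (aN (σ * τ)⁻¹ (aN σ (Multiplicative.ofAdd z))) j = Multiplicative.toAdd (aN τ⁻¹ _) j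
      rw [show aN (σ * τ)⁻¹ (aN σ (Multiplicative.ofAdd z)) = aN ((σ * τ)⁻¹ * σ) (Multiplicative.ofAdd z) by rw [map_mul]; rfl,
        mul_inv_rev, inv_mul_cancel_right]
  let ρ : (I → ℤ) →ₗ[ℤ] (Fin r → ℤ) := LinearMap.funLeft ℤ ℤ fun j => Sum.inr (1, j)
  have hρ : ∀ z, ρ (io z) = z := fun z => funext fun j => by
    show Multiplicative.toAdd (aN (1 : G)⁻¹ (Multiplicative.ofAdd z)) j = z j
    rw [inv_one, map_one]; rfl
  let b := Module.Free.chooseBasis ℤ (LinearMap.ker ρ)
  let d := Fintype.card (Module.Free.ChooseBasisIndex ℤ (LinearMap.ker ρ))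
  let eK : LinearMap.ker ρ ≃ₗ[ℤ] (Fin d → ℤ) := (b.reindex (Fintype.equivFin _)).equivFun
  have hproj : ∀ w, w - io (ρ w) ∈ LinearMap.ker ρ := fun w => by
    rw [LinearMap.mem_ker, map_sub, hρ, sub_self]
  let κ : (I → ℤ) →+ (Fin d → ℤ) :=
    { toFun := fun w => eK ⟨w - io (ρ w), hproj w⟩
      map_zero' := by rw [← map_zero eK]; congr 1; exact Subtype.ext (by simp)
      map_add' := fun w w' => by
        rw [← map_add eK]; congr 1
        exact Subtype.ext (by simp only [map_add, Submodule.coe_add]; abel) }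
  have hκ : ∀ w, κ w = eK ⟨w - io (ρ w), hproj w⟩ := fun w => rfl
  have hξ : ∀ z, κ (eK.symm z : I → ℤ) = z := fun z => by
    rw [hκ]
    conv_rhs => rw [← eK.apply_symm_apply z]
    congr 1
    refine Subtype.ext ?_
    show (eK.symm z : I → ℤ) - io (ρ (eK.symm z : I → ℤ)) = _
    rw [LinearMap.mem_ker.1 (eK.symm z).2, map_zero, sub_zero]
  have hκio : ∀ z, κ (io z) = 0 := fun z => by
    rw [hκ, ← map_zero eK]
    congr 1
    exact Subtype.ext (by show io z - io (ρ (io z)) = 0; rw [hρ, sub_self])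
  let act : G → (I → ℤ) →+ (I → ℤ) := fun σ =>
    (LinearMap.funLeft ℤ ℤ (pI σ).symm).toAddMonoidHom
  have hact : ∀ σ w i, act σ w i = w ((pI σ).symm i) := fun σ w i => rfl
  have hact' : ∀ σ w, act σ w = fun i => w ((pI σ).symm i) := fun σ w => rfl
  have hkey : ∀ σ w, κ (act σ w) = κ (act σ (eK.symm (κ w) : I → ℤ)) := fun σ w => by
    have h1 : w = (eK.symm (κ w) : I → ℤ) + io (ρ w) := by
      rw [hκ, eK.symm_apply_apply]; exact (sub_add_cancel w _).symm
    have h2 : act σ (io (ρ w)) = io (Multiplicative.toAdd (aN σ (Multiplicative.ofAdd (ρ w)))) := funext fun i => by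
      rw [hact, ← hio σ (ρ w) ((pI σ).symm i), Equiv.apply_symm_apply]
    conv_lhs => rw [h1]
    rw [map_add, map_add, h2, hκio, add_zero]
  have hactmul : ∀ σ τ w, act (σ * τ) w = act σ (act τ w) := fun σ τ w => funext fun i => by
    rw [hact, hact, hact, map_mul]; rfl
  let aA : G → (Fin d → ℤ) →+ (Fin d → ℤ) := fun σ =>
    { toFun := fun z => κ (act σ (eK.symm z : I → ℤ))
      map_zero' := by simp
      map_add' := fun z z' => by simp }
  let aM : G →* Monoid.End (Multiplicative (Fin d → ℤ)) :=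
    { toFun := fun σ => AddMonoidHom.toMultiplicative (aA σ)
      map_one' := MonoidHom.ext fun z => by
        show Multiplicative.ofAdd (κ (act 1 (eK.symm (Multiplicative.toAdd z) : I → ℤ))) = z
        rw [show act 1 (eK.symm (Multiplicative.toAdd z) : I → ℤ) = (eK.symm (Multiplicative.toAdd z) : I → ℤ) from
          funext fun i => by rw [hact, map_one]; rfl, hξ]
        rfl
      map_mul' := fun σ τ => MonoidHom.ext fun z => by
        show Multiplicative.ofAdd (κ (act (σ * τ) _)) = Multiplicative.ofAdd (κ (act σ (eK.symm (κ (act τ _)) : I → ℤ)))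
        rw [hactmul, hkey] }
  refine ⟨I, inferInstance, pI, Sum.inl, d, aM, κ, ρ.toAddMonoidHom, io, Sum.inl_injective, hpl,
    fun z => ⟨_, hξ z⟩, fun σ w => ?_, fun z b => rfl, hκio, fun w hw hρw => ?_⟩
  · show Multiplicative.ofAdd (κ (act σ (eK.symm (κ w) : I → ℤ))) = _
    rw [← hkey, hact']
  · rw [hκ, LinearEquiv.map_eq_zero_iff, Subtype.ext_iff] at hw
    have hρw' : ρ w = 0 := hρw
    simpa [hρw'] using hw

variable {k L : Type u} [Field k] [Field L] [Algebra k L] [FiniteDimensional k L] [IsGalois k L]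

/-- The coordinates on the product with the torus of the kernel lattice. -/
theorem exists_lattice_data {r : ℕ} (aN : (L ≃ₐ[k] L) →* Monoid.End (Multiplicative (Fin r → ℤ)))
    {A : Type u} [CommRing A] [IsDomain A] [Algebra k A] (π : A →ₐ[k] MonoidAlgebra L (Multiplicative (Fin r → ℤ)))
    (hπ : Function.Bijective (extHom (R := L) π)) (hfix : ∀ σ d, actR σ (aN σ) (π d) = π d)
    {n : ℕ} {h : A} (hh : h ≠ 0) {g : MvPolynomial (Fin n) k} (α : Localization.Away g →ₐ[k] Localization.Away h)
    (β : Localization.Away h →ₐ[k] Localization.Away g) (hαβ : α.comp β = AlgHom.id k _) :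
    ∃ (d : ℕ) (aM : (L ≃ₐ[k] L) →* Monoid.End (Multiplicative (Fin d → ℤ))),
      ∀ (F : Type u) [Field F] [Algebra k F] [Algebra L F] [IsScalarTower k L F]
        [Algebra (MonoidAlgebra L (Multiplicative (Fin r → ℤ) × Multiplicative (Fin d → ℤ))) F]
        [IsScalarTower L (MonoidAlgebra L (Multiplicative (Fin r → ℤ) × Multiplicative (Fin d → ℤ))) F]
        [IsFractionRing (MonoidAlgebra L (Multiplicative (Fin r → ℤ) × Multiplicative (Fin d → ℤ))) F]
        (ψ : (L ≃ₐ[k] L) →* (F ≃ₐ[k] F)),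
        (∀ σ x, ψ σ (algebraMap _ F x) =
          algebraMap (MonoidAlgebra L (Multiplicative (Fin r → ℤ) × Multiplicative (Fin d → ℤ))) F
            (actR σ ((aN σ).prodMap (aM σ)) x)) →
        ∃ (I : Type u) (_ : Finite I) (y x : I → F), (∀ σ i, ∃ j, ψ σ (y i) = y j) ∧
          IntermediateField.adjoin L (Set.range y) = ⊤ ∧ AlgebraicIndependent L x := by
  classical
  haveI : UniqueProds (Multiplicative (Fin r → ℤ)) := inferInstance
  haveI : IsDomain (MonoidAlgebra L (Multiplicative (Fin r → ℤ))) := NoZeroDivisors.to_isDomain _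
  let FA := FractionRing (MonoidAlgebra L (Multiplicative (Fin r → ℤ)))
  obtain ⟨ψA, hψAL, hψA⟩ := exists_frac_action (k := k) (F := FA) aN
  let ιA : MonoidAlgebra L (Multiplicative (Fin r → ℤ)) →ₐ[L] FA := IsScalarTower.toAlgHom L _ FA
  obtain ⟨B, _, p, v, s, hv, hveq, hs, hs0, hgenA⟩ := exists_val aN π hπ hfix hh α β hαβ ιA
    (IsFractionRing.injective _ FA) ψA hψAL hψA
  obtain ⟨I, _, pI, iB, d, aM, κ, ρ, io, hiB, hpiB, hκ, hκeq, hio, hκio, hinj⟩ :=
    exists_kernel_lattice aN p v hv hveq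
  refine ⟨d, aM, ?_⟩
  intro F _ _ _ _ _ _ _ ψ hψ
  let N := Multiplicative (Fin r → ℤ)
  let M := Multiplicative (Fin d → ℤ)
  let inl' : MonoidAlgebra L N →ₐ[L] F :=
    (IsScalarTower.toAlgHom L (MonoidAlgebra L (N × M)) F).comp (MonoidAlgebra.mapDomainAlgHom L L (MonoidHom.inl N M))
  have hinl : Function.Injective inl' := (IsFractionRing.injective (MonoidAlgebra L (N × M)) F).comp
    (MonoidAlgebra.mapDomain_injective fun a b hab => congrArg Prod.fst hab)
  let jA : FA →ₐ[L] F := IsFractionRing.liftAlgHom hinl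
  have hjA : ∀ z, jA (algebraMap _ FA z) = inl' z := fun z => IsFractionRing.lift_algebraMap hinl z
  have hψinl : ∀ σ z, ψ σ (inl' z) = inl' (actR σ (aN σ) z) := fun σ z => by
    show ψ σ (algebraMap _ F _) = _
    rw [hψ]
    exact congrArg (algebraMap _ F)
      (mapDomain_actR σ (aN σ) ((aN σ).prodMap (aM σ)) (MonoidHom.inl N M) (fun m => Prod.ext rfl (map_one (aM σ)).symm) z).symm
  have hψjA : ∀ σ z, ψ σ (jA z) = jA (ψA σ z) := fun σ z => by
    obtain ⟨a, b, -, rfl⟩ := IsFractionRing.div_surjective (A := MonoidAlgebra L N) z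
    rw [map_div₀, map_div₀, map_div₀, map_div₀]
    rw [show ψA σ (algebraMap _ FA a) = algebraMap _ FA (actR σ (aN σ) a) from hψA σ a,
      show ψA σ (algebraMap _ FA b) = algebraMap _ FA (actR σ (aN σ) b) from hψA σ b, hjA, hjA, hjA, hjA, hψinl, hψinl]
  -- monomials of the second factor
  let Y : (I → ℤ) →+ Additive Fˣ := MonoidHom.toAdditiveRight
    (((MonoidHom.toHomUnits ((algebraMap (MonoidAlgebra L (N × M)) F).toMonoidHom.comp
      ((MonoidAlgebra.of L (N × M)).comp (MonoidHom.inr N M))))).comp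
      (AddMonoidHom.toMultiplicative κ))
  have hY : ∀ w, ((Additive.toMul (Y w) : Fˣ) : F) =
      algebraMap (MonoidAlgebra L (N × M)) F (MonoidAlgebra.single (1, Multiplicative.ofAdd (κ w)) 1) := fun w => rfl
  let s' : I → F := Function.extend iB (fun b => jA (s b)) 1
  have hs'B : ∀ b, s' (iB b) = jA (s b) := fun b => hiB.extend_apply _ _ b
  have hs'1 : ∀ i, (¬ ∃ b, iB b = i) → s' i = 1 := fun i hi => Function.extend_apply' _ _ i hi
  have hs'0 : ∀ i, s' i ≠ 0 := fun i => by
    by_cases hi : ∃ b, iB b = i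
    · obtain ⟨b, rfl⟩ := hi
      rw [hs'B]
      exact (map_ne_zero_iff _ jA.injective).2 (hs0 b)
    · rw [hs'1 i hi]; exact one_ne_zero
  let y : I → F := fun i => s' i * (Additive.toMul (Y (Pi.single i 1)) : Fˣ)
  let eQ : (I → ℤ) →+ Additive (N × M) := MonoidHom.toAdditiveRight
    ((AddMonoidHom.toMultiplicative ρ).prod (AddMonoidHom.toMultiplicative κ))
  have heQ : Function.Injective eQ := (injective_iff_map_eq_zero eQ).2 fun w hw => by
    have h1 := congrArg (fun t : Additive (N × M) => Multiplicative.toAdd (Additive.toMul t).1) hw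
    have h2 := congrArg (fun t : Additive (N × M) => Multiplicative.toAdd (Additive.toMul t).2) hw
    exact hinj w h2 h1
  refine ⟨I, inferInstance, y, _, fun σ i => ⟨pI σ i, ?_⟩, ?_, algebraicIndependent_monomial (F := F) eQ heQ⟩
  · have hs'σ : ψ σ (s' i) = s' (pI σ i) := by
      by_cases hi : ∃ b, iB b = i
      · obtain ⟨b, rfl⟩ := hi
        rw [hs'B, hψjA, hs, hpiB, hs'B]
      · rw [hs'1 i hi, map_one, hs'1]
        rintro ⟨b, hb⟩
        refine hi ⟨p σ⁻¹ b, ?_⟩
        rw [← hpiB, hb, ← Equiv.Perm.mul_apply, ← map_mul, inv_mul_cancel, map_one, Equiv.Perm.one_apply]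
    simp only [y, map_mul, hs'σ]
    congr 1
    rw [hY, hY, hψ, actR_single, map_one]
    congr 2
    refine Prod.ext (map_one (aN σ)) ?_
    show aM σ (Multiplicative.ofAdd (κ (Pi.single i 1))) = _
    rw [hκeq]
    congr 2
    funext j
    simp [Pi.single_apply, Equiv.symm_apply_eq]
  · set S := IntermediateField.adjoin L (Set.range y) with hS
    have hyS : ∀ i, y i ∈ S := fun i => IntermediateField.subset_adjoin _ _ ⟨i, rfl⟩
    have hprod : ∀ w : I → ℤ, ∏ i, y i ^ w i = (∏ i, s' i ^ w i) * (Additive.toMul (Y w) : Fˣ) := fun w => by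
      rw [hom_pi_eq_prod Y w, Units.coe_prod, ← Finset.prod_mul_distrib]
      refine Finset.prod_congr rfl fun i _ => ?_
      rw [mul_zpow, Units.val_zpow_eq_zpow_val]
    have hgenN : ∀ m : N, inl' (MonoidAlgebra.single m 1) ∈ S := fun m => by
      obtain ⟨c, hc⟩ := hgenA m
      rw [← hjA, show algebraMap _ FA (MonoidAlgebra.single m (1 : L)) = ιA (MonoidAlgebra.single m 1) from rfl, hc,
        map_mul, AlgHom.commutes]
      refine mul_mem (S.algebraMap_mem c) ?_
      have h1 : ∏ i, s' i ^ io (Multiplicative.toAdd m) i = jA (∏ b, s b ^ v m b) := by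
        rw [map_prod]
        refine (Fintype.prod_of_injective iB hiB _ _ (fun i hi => ?_) fun b => ?_).symm
        · rw [hs'1 i (fun ⟨b, hb⟩ => hi ⟨b, hb⟩), one_zpow]
        · rw [map_zpow₀, hs'B, hio]; rfl
      have h2 := hprod (io (Multiplicative.toAdd m))
      rw [h1, hY, hκio] at h2
      have h3 : algebraMap (MonoidAlgebra L (N × M)) F (MonoidAlgebra.single (1, Multiplicative.ofAdd (0 : Fin d → ℤ)) 1) = 1 :=
        map_one (algebraMap (MonoidAlgebra L (N × M)) F)
      rw [h3, mul_one] at h2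
      rw [← h2]
      exact prod_mem fun i _ => zpow_mem (hyS i) _
    have hN : ∀ z, inl' z ∈ S := fun z => by
      induction z using MonoidAlgebra.induction_linear with
      | zero => rw [map_zero]; exact S.zero_mem
      | add a b ha hb => rw [map_add]; exact add_mem ha hb
      | single m c =>
        rw [show MonoidAlgebra.single m c = c • MonoidAlgebra.single m (1 : L) by simp, map_smul]
        exact S.smul_mem (hgenN m)
    have hA : ∀ z, jA z ∈ S := fun z => by
      obtain ⟨a, b, -, rfl⟩ := IsFractionRing.div_surjective (A := MonoidAlgebra L N) z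
      rw [map_div₀, hjA, hjA]
      exact div_mem (hN a) (hN b)
    have hM : ∀ z : M, algebraMap (MonoidAlgebra L (N × M)) F (MonoidAlgebra.single (1, z) 1) ∈ S := fun z => by
      obtain ⟨w, hw⟩ := hκ (Multiplicative.toAdd z)
      rw [show z = Multiplicative.ofAdd (κ w) by rw [hw]; rfl, ← hY]
      have h2 := hprod w
      have hne : ∏ i, s' i ^ w i ≠ 0 := Finset.prod_ne_zero_iff.2 fun i _ => zpow_ne_zero _ (hs'0 i)
      rw [← inv_mul_cancel_left₀ hne ((Additive.toMul (Y w) : Fˣ) : F), ← h2]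
      refine mul_mem (inv_mem (prod_mem fun i _ => zpow_mem ?_ _)) (prod_mem fun i _ => zpow_mem (hyS i) _)
      by_cases hi : ∃ b, iB b = i
      · obtain ⟨b, rfl⟩ := hi
        rw [hs'B]; exact hA _
      · rw [hs'1 i hi]; exact S.one_mem
    have hall : ∀ z : MonoidAlgebra L (N × M), algebraMap _ F z ∈ S := fun z => by
      induction z using MonoidAlgebra.induction_linear with
      | zero => rw [map_zero]; exact S.zero_mem
      | add a b ha hb => rw [map_add]; exact add_mem ha hb
      | single q c =>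
        rw [show MonoidAlgebra.single q c = MonoidAlgebra.single (q.1, (1 : M)) c * MonoidAlgebra.single ((1 : N), q.2) 1 by
          simp [MonoidAlgebra.single_mul_single], map_mul]
        refine mul_mem ?_ (hM _)
        have := hN (MonoidAlgebra.single q.1 c)
        simpa [inl'] using this
    refine eq_top_iff.2 fun z _ => ?_
    obtain ⟨a, b, -, rfl⟩ := IsFractionRing.div_surjective (A := MonoidAlgebra L (N × M)) z
    exact div_mem (hall a) (hall b)

end Groth.Agent.RetractRat26
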