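import Groth.Agent.IsoTriv.HopfDescent
import Groth.Agent.TorusGal29.Action
import Groth.Agent.CSA.GaloisDescent
import Mathlib.RingTheory.TensorProduct.MonoidAlgebra

/-! # The torus of a Galois lattice -/

set_option linter.style.haveILetI false
set_option linter.unusedSectionVars false
set_option autoImplicit false
set_option backward.isDefEq.respectTransparency.types false
universe u v w

open TensorProduct Groth.Agent.IsoTriv

noncomputable section

namespace Groth.Agent.RetractRat26

variable {k L : Type u} [Field k] [Field L] [Algebra k L] {M : Type v} [CommGroup M] {M' : Type w} [CommGroup M']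

/-- The semilinear map of monoid algebras. -/
def actR (σ : L ≃ₐ[k] L) (φ : M →* M) : MonoidAlgebra L M →+* MonoidAlgebra L M :=
  (MonoidAlgebra.mapDomainRingHom L φ).comp (MonoidAlgebra.mapRingHom M (σ : L →+* L))

@[simp] theorem actR_single (σ : L ≃ₐ[k] L) (φ : M →* M) (m : M) (c : L) :
    actR σ φ (MonoidAlgebra.single m c) = MonoidAlgebra.single (φ m) (σ c) := by
  simp [actR]

theorem algebraMap_eq_single (c : L) : algebraMap L (MonoidAlgebra L M) c = MonoidAlgebra.single 1 c := by
  simp

theorem actR_algebraMap (σ : L ≃ₐ[k] L) (φ : M →* M) (c : L) :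
    actR σ φ (algebraMap L (MonoidAlgebra L M) c) = algebraMap L (MonoidAlgebra L M) (σ c) := by
  rw [algebraMap_eq_single, algebraMap_eq_single, actR_single, map_one]

theorem actR_smul (σ : L ≃ₐ[k] L) (φ : M →* M) (c : L) (x : MonoidAlgebra L M) :
    actR σ φ (c • x) = σ c • actR σ φ x := by
  rw [Algebra.smul_def, map_mul, actR_algebraMap, ← Algebra.smul_def]

theorem actR_comp (σ τ : L ≃ₐ[k] L) (φ ψ : M →* M) (x : MonoidAlgebra L M) :
    actR (σ * τ) (φ.comp ψ) x = actR σ φ (actR τ ψ x) := by
  induction x using MonoidAlgebra.induction_linear with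
  | zero => simp
  | add a b ha hb => simp only [map_add, ha, hb]
  | single m c => simp

theorem actR_one (x : MonoidAlgebra L M) : actR (1 : L ≃ₐ[k] L) (MonoidHom.id M) x = x := by
  induction x using MonoidAlgebra.induction_linear with
  | zero => simp
  | add a b ha hb => simp only [map_add, ha, hb]
  | single m c => simp

theorem algebraMap_k (c : k) :
    algebraMap k (MonoidAlgebra L M) c = MonoidAlgebra.single 1 (algebraMap k L c) := by
  rw [IsScalarTower.algebraMap_apply k L (MonoidAlgebra L M), algebraMap_eq_single]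

theorem mapDomain_actR (σ : L ≃ₐ[k] L) (φ : M →* M) (ψ : M' →* M') (f : M →* M')
    (hf : ∀ m, f (φ m) = ψ (f m)) (x : MonoidAlgebra L M) :
    MonoidAlgebra.mapDomainRingHom L f (actR σ φ x) = actR σ ψ (MonoidAlgebra.mapDomainRingHom L f x) := by
  induction x using MonoidAlgebra.induction_linear with
  | zero => simp
  | add a b ha hb => simp only [map_add, ha, hb]
  | single m c => simp [hf]

theorem tensorEquiv_actR (σ : L ≃ₐ[k] L) (φ : M →* M) (ψ : M' →* M') (x : MonoidAlgebra L M) (y : MonoidAlgebra L M') :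
    MonoidAlgebra.tensorEquiv L (actR σ φ x ⊗ₜ[L] actR σ ψ y) =
      actR σ (φ.prodMap ψ) (MonoidAlgebra.tensorEquiv L (x ⊗ₜ[L] y)) := by
  induction x using MonoidAlgebra.induction_linear with
  | zero => simp
  | add a b ha hb => simp only [map_add, add_tmul, ha, hb]
  | single m c =>
    induction y using MonoidAlgebra.induction_linear with
    | zero => simp
    | add a b ha hb => simp only [map_add, tmul_add, ha, hb]
    | single m' c' => simp [MonoidAlgebra.tensorEquiv_single_tmul_single]

section Descent

variable {M : Type} [CommGroup M]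
variable [FiniteDimensional k L] [IsGalois k L] {D : Type u} [CommRing D] [Algebra k D]
  (a : (L ≃ₐ[k] L) →* Monoid.End M) (π : D →ₐ[k] MonoidAlgebra L M)
  (hπ : Function.Bijective (extHom (R := L) π)) (hfix : ∀ σ d, actR σ (a σ) (π d) = π d)

include hfix in
omit [FiniteDimensional k L] [IsGalois k L] in
theorem extHom_rTensor (σ : L ≃ₐ[k] L) (z : L ⊗[k] D) :
    extHom (R := L) π (LinearMap.rTensor D σ.toLinearMap z) = actR σ (a σ) (extHom (R := L) π z) := by
  induction z using TensorProduct.induction_on with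
  | zero => simp
  | add x y hx hy => simp only [map_add, hx, hy]
  | tmul l d => simp [actR_smul, hfix]

include hπ hfix in
theorem exists_of_actR_fixed (x : MonoidAlgebra L M) (hx : ∀ σ : L ≃ₐ[k] L, actR σ (a σ) x = x) : ∃ d, π d = x := by
  obtain ⟨z, rfl⟩ := hπ.2 x
  obtain ⟨d, rfl⟩ := CSA.exists_eq_one_tmul_of_fixed z fun σ => hπ.1 (by rw [extHom_rTensor a π hfix, hx])
  exact ⟨d, by simp⟩

end Descent

section Product

variable {M M' : Type} [CommGroup M] [CommGroup M']
variable {D D' : Type u} [CommRing D] [Algebra k D] [CommRing D'] [Algebra k D']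
  (π : D →ₐ[k] MonoidAlgebra L M) (π' : D' →ₐ[k] MonoidAlgebra L M')

/-- The map of a product. -/
def prodMapAlg : D ⊗[k] D' →ₐ[k] MonoidAlgebra L (M × M') :=
  Algebra.TensorProduct.lift
    (((MonoidAlgebra.mapDomainAlgHom L L (MonoidHom.inl M M')).restrictScalars k).comp π)
    (((MonoidAlgebra.mapDomainAlgHom L L (MonoidHom.inr M M')).restrictScalars k).comp π') fun _ _ => Commute.all _ _

theorem prodMapAlg_tmul (x : D) (y : D') :
    prodMapAlg π π' (x ⊗ₜ y) = MonoidAlgebra.mapDomainAlgHom L L (MonoidHom.inl M M') (π x) *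
      MonoidAlgebra.mapDomainAlgHom L L (MonoidHom.inr M M') (π' y) := by
  simp [prodMapAlg]

theorem inl_mul_inr (x : MonoidAlgebra L M) (y : MonoidAlgebra L M') :
    MonoidAlgebra.mapDomainAlgHom L L (MonoidHom.inl M M') x * MonoidAlgebra.mapDomainAlgHom L L (MonoidHom.inr M M') y =
      MonoidAlgebra.tensorEquiv L (x ⊗ₜ[L] y) := by
  induction x using MonoidAlgebra.induction_linear with
  | zero => simp
  | add a b ha hb => simp only [map_add, add_tmul, add_mul, ha, hb]
  | single m c =>
    induction y using MonoidAlgebra.induction_linear with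
    | zero => simp
    | add a b ha hb => simp only [map_add, tmul_add, mul_add, ha, hb]
    | single m' c' => simp [MonoidAlgebra.tensorEquiv_single_tmul_single, MonoidAlgebra.single_mul_single]

theorem extHom_prodMapAlg (z : L ⊗[k] (D ⊗[k] D')) :
    extHom (R := L) (prodMapAlg π π') z = MonoidAlgebra.tensorEquiv L (extHom (R := L) (pairHom (R := L) π π') z) := by
  induction z using TensorProduct.induction_on with
  | zero => simp
  | add x y hx hy => simp only [map_add, hx, hy]
  | tmul l d =>
    induction d using TensorProduct.induction_on with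
    | zero => simp
    | add x y hx hy => simp only [tmul_add, map_add, hx, hy]
    | tmul x y =>
      rw [extHom_tmul, extHom_tmul, pairHom_tmul, prodMapAlg_tmul, map_smul, inl_mul_inr]

theorem prodMapAlg_bijective (hπ : Function.Bijective (extHom (R := L) π))
    (hπ' : Function.Bijective (extHom (R := L) π')) : Function.Bijective (extHom (R := L) (prodMapAlg π π')) := by
  have h : ⇑(extHom (R := L) (prodMapAlg π π')) =
      MonoidAlgebra.tensorEquiv L ∘ extHom (R := L) (pairHom (R := L) π π') := funext (extHom_prodMapAlg π π')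
  rw [h]
  exact (MonoidAlgebra.tensorEquiv L).bijective.comp (extHom_pairHom_bijective π π' hπ hπ')

theorem prodMapAlg_fixed (σ : L ≃ₐ[k] L) (φ : M →* M) (ψ : M' →* M') (h : ∀ d, actR σ φ (π d) = π d)
    (h' : ∀ d, actR σ ψ (π' d) = π' d) (z : D ⊗[k] D') :
    actR σ (φ.prodMap ψ) (prodMapAlg π π' z) = prodMapAlg π π' z := by
  induction z using TensorProduct.induction_on with
  | zero => simp
  | add x y hx hy => simp only [map_add, hx, hy]
  | tmul x y =>
    rw [prodMapAlg_tmul, map_mul]
    congr 1
    · exact ((mapDomain_actR σ φ (φ.prodMap ψ) (MonoidHom.inl M M') (fun m => by simp) (π x)).symm).trans (by rw [h]; rfl)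
    · exact ((mapDomain_actR σ ψ (φ.prodMap ψ) (MonoidHom.inr M M') (fun m => by simp) (π' y)).symm).trans (by rw [h']; rfl)

end Product

section Lattice

variable [FiniteDimensional k L] [IsGalois k L] {N : Type} [CommGroup N] (a : (L ≃ₐ[k] L) →* Monoid.End N)

/-- The invariants of the monoid algebra. -/
def fixedAlg : Subalgebra k (MonoidAlgebra L N) where
  carrier := {x | ∀ σ : L ≃ₐ[k] L, actR σ (a σ) x = x}
  mul_mem' hx hy σ := by rw [map_mul, hx σ, hy σ]
  add_mem' hx hy σ := by rw [map_add, hx σ, hy σ]
  algebraMap_mem' c σ := by rw [algebraMap_k]; exact (actR_single σ _ 1 _).trans (by rw [map_one, σ.commutes])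

theorem bijective_fixedAlg : Function.Bijective (extHom (R := L) (fixedAlg a).val) := by
  letI : DistribMulAction (L ≃ₐ[k] L) (MonoidAlgebra L N) :=
    { smul := fun σ x => actR σ (a σ) x
      one_smul := fun x => by
        show actR 1 (a 1) x = x
        rw [map_one]; exact actR_one x
      mul_smul := fun σ τ x => by
        show actR (σ * τ) (a (σ * τ)) x = actR σ (a σ) (actR τ (a τ) x)
        rw [map_mul]; exact actR_comp σ τ _ _ x
      smul_zero := fun σ => map_zero (actR σ (a σ))
      smul_add := fun σ x y => map_add (actR σ (a σ)) x y }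
  constructor
  · let b := Module.Free.chooseBasis k (fixedAlg a)
    have hli := CSA.linearIndependent_of_fixed (V := MonoidAlgebra L N) (fun σ c x => actR_smul σ (a σ) c x) (fun i => (b i : MonoidAlgebra L N)) (fun i => (b i).2)
      (b.linearIndependent.map' (fixedAlg a).val.toLinearMap (LinearMap.ker_eq_bot.2 Subtype.val_injective))
    let B := Algebra.TensorProduct.basis L b
    have h : (extHom (R := L) (fixedAlg a).val).toLinearMap =
        (Finsupp.linearCombination L fun i => (b i : MonoidAlgebra L N)) ∘ₗ B.repr.toLinearMap := B.ext fun i => by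
      simp [B]
    intro x y hxy
    refine B.repr.injective (hli ?_)
    have hx := LinearMap.congr_fun h x
    have hy := LinearMap.congr_fun h y
    simp only [LinearMap.comp_apply, LinearEquiv.coe_coe, AlgHom.toLinearMap_apply] at hx hy
    rw [← hx, ← hy, hxy]
  · intro x
    have hx : x ∈ Submodule.span L (MulAction.fixedPoints (L ≃ₐ[k] L) (MonoidAlgebra L N)) := by
      rw [CSA.span_fixed_eq_top (V := MonoidAlgebra L N) (fun σ c x => actR_smul σ (a σ) c x)]; trivial
    have hle : Submodule.span L (MulAction.fixedPoints (L ≃ₐ[k] L) (MonoidAlgebra L N)) ≤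
        LinearMap.range (extHom (R := L) (fixedAlg a).val).toLinearMap :=
      Submodule.span_le.2 fun y hy => ⟨(1 : L) ⊗ₜ[k] (⟨y, hy⟩ : fixedAlg a), by simp⟩
    exact hle hx

theorem comul_actR (σ : L ≃ₐ[k] L) (φ : N →* N) (x : MonoidAlgebra L N) :
    MonoidAlgebra.tensorEquiv L (Bialgebra.comulAlgHom L (MonoidAlgebra L N) (actR σ φ x)) =
      actR σ (φ.prodMap φ) (MonoidAlgebra.tensorEquiv L (Bialgebra.comulAlgHom L (MonoidAlgebra L N) x)) := by
  induction x using MonoidAlgebra.induction_linear with
  | zero => simp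
  | add a b ha hb => simp only [map_add, ha, hb]
  | single m c => simp [MonoidAlgebra.comul_single, MonoidAlgebra.tensorEquiv_single_tmul_single]

/-- The Hopf algebra of a lattice with Galois action. -/
theorem exists_lattice_hopf : ∃ (A : Type u) (_ : CommRing A) (_ : HopfAlgebra k A)
    (E : L ⊗[k] A ≃ₐc[L] MonoidAlgebra L N),
      ∀ (σ : L ≃ₐ[k] L) x, actR σ (a σ) (E ((1 : L) ⊗ₜ[k] x)) = E ((1 : L) ⊗ₜ[k] x) := by
  let A₀ := fixedAlg a
  let π : A₀ →ₐ[k] MonoidAlgebra L N := A₀.val
  have hπ : Function.Bijective (extHom (R := L) π) := bijective_fixedAlg a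
  have hfix : ∀ σ (d : A₀), actR σ (a σ) (π d) = π d := fun σ d => d.2 σ
  have hπ₂ := extHom_pairHom_bijective (R := L) π π hπ hπ
  let a₂ : (L ≃ₐ[k] L) →* Monoid.End (N × N) :=
    { toFun := fun σ => MonoidHom.prodMap (a σ) (a σ)
      map_one' := by rw [map_one]; rfl
      map_mul' := fun σ τ => by rw [map_mul]; rfl }
  have key : ∀ x : A₀, ∃ z : A₀ ⊗[k] A₀,
      pairHom (R := L) π π z = ((Bialgebra.comulAlgHom L (MonoidAlgebra L N)).restrictScalars k).comp π x := by
    intro x
    obtain ⟨z, hz⟩ := exists_of_actR_fixed a₂ (prodMapAlg π π) (prodMapAlg_bijective π π hπ hπ)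
      (fun σ d => prodMapAlg_fixed π π σ (a σ) (a σ) (hfix σ) (hfix σ) d)
      (MonoidAlgebra.tensorEquiv L (Bialgebra.comulAlgHom L (MonoidAlgebra L N) (π x)))
      (fun σ => ((comul_actR σ (a σ) (π x)).symm).trans (by rw [hfix]))
    refine ⟨z, (MonoidAlgebra.tensorEquiv L).injective (Eq.trans ?_ hz)⟩
    have := extHom_prodMapAlg π π ((1 : L) ⊗ₜ[k] z)
    simpa using this.symm
  have hi := injective_of_extHom (R := k) hπ
  have hi₂ := injective_of_extHom (R := k) hπ₂
  obtain ⟨Δ, hΔ⟩ := exists_algHom_of_range (pairHom (R := L) π π) hi₂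
    (((Bialgebra.comulAlgHom L (MonoidAlgebra L N)).restrictScalars k).comp π) key
  have hε₀ : ∀ x : A₀, ∃ r, Algebra.ofId k L r =
      ((Bialgebra.counitAlgHom L (MonoidAlgebra L N)).restrictScalars k).comp π x := by
    intro x
    refine (IsGalois.mem_range_algebraMap_iff_fixed (F := k) _).2 fun σ => ?_
    have h : ∀ y : MonoidAlgebra L N, Bialgebra.counitAlgHom L (MonoidAlgebra L N) (actR σ (a σ) y) =
        σ (Bialgebra.counitAlgHom L (MonoidAlgebra L N) y) := fun y => by
      induction y using MonoidAlgebra.induction_linear with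
      | zero => simp
      | add p q hp hq => simp only [map_add, hp, hq]
      | single m c => simp
    have := h (π x)
    rw [hfix] at this
    exact this.symm
  obtain ⟨ε, hε⟩ := exists_algHom_of_range (Algebra.ofId k L) (algebraMap k L).injective _ hε₀
  have hS₀ : ∀ x : A₀, ∃ y, π y = ((HopfAlgebra.antipodeAlgHom L (MonoidAlgebra L N)).restrictScalars k).comp π x := by
    intro x
    refine ⟨⟨_, fun σ => ?_⟩, rfl⟩
    have h : ∀ y : MonoidAlgebra L N, HopfAlgebra.antipodeAlgHom L (MonoidAlgebra L N) (actR σ (a σ) y) =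
        actR σ (a σ) (HopfAlgebra.antipodeAlgHom L (MonoidAlgebra L N) y) := fun y => by
      induction y using MonoidAlgebra.induction_linear with
      | zero => simp
      | add p q hp hq => simp only [map_add, hp, hq]
      | single m c => simp [map_inv]
    exact ((h (π x)).symm).trans (by rw [hfix]; rfl)
  obtain ⟨S, hS⟩ := exists_algHom_of_range π hi _ hS₀
  haveI : Module.FaithfullyFlat k (PUnit.{u+1} → L) :=
    faithfullyFlat_pi (fun _ : PUnit.{u+1} => L) (fun _ => inferInstance)
      (fun p => ⟨PUnit.unit, PrimeSpectrum.comap_surjective_of_faithfullyFlat (B := L) p⟩)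
  obtain ⟨A', hc, hA, j, hE⟩ := exists_hopf_of_maps (fun _ : PUnit.{u+1} => L) (fun _ => MonoidAlgebra L N)
    (fun _ => π) (fun _ => hπ) Δ ε S (fun _ => hΔ) (fun _ x => (hε x).symm) (fun _ x => (hS x).symm)
  obtain ⟨E, hE⟩ := hE PUnit.unit
  exact ⟨A', hc, hA, E, fun σ x => by rw [hE]; exact hfix σ (j x)⟩

end Lattice

section Split

variable {A : Type u} [CommRing A] [Bialgebra k A] {N N' : Type u} [CommGroup N] [CommGroup N']

/-- The Galois action on a split form fixes the form. -/
theorem actR_gal (e : L ⊗[k] A ≃ₐc[L] MonoidAlgebra L N) (σ : L ≃ₐ[k] L) (x : A) :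
    actR σ (TorusGal29.actHom e σ) (e ((1 : L) ⊗ₜ[k] x)) = e ((1 : L) ⊗ₜ[k] x) := by
  have key : ∀ z, e (push A σ.toAlgHom z) = actR σ (TorusGal29.actHom e σ) (e z) := by
    intro z
    obtain ⟨w, rfl⟩ : ∃ w, e.symm w = z := ⟨e z, e.symm_apply_apply z⟩
    induction w using MonoidAlgebra.induction_linear with
    | zero => simp
    | add p q hp hq => simp only [map_add, hp, hq]
    | single m c =>
      have h1 : e.symm (MonoidAlgebra.single m c) = (c ⊗ₜ[k] (1 : A)) * TorusGal29.gl e m := by
        apply EquivLike.injective e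
        rw [e.apply_symm_apply, map_mul, TorusGal29.apply_gl]
        rw [show c ⊗ₜ[k] (1 : A) = algebraMap L (L ⊗[k] A) c from rfl, AlgHomClass.commutes, algebraMap_eq_single,
          MonoidAlgebra.single_mul_single, one_mul, mul_one]
      rw [e.apply_symm_apply, h1, map_mul, ← TorusGal29.gl_act, push_tmul, map_mul, TorusGal29.apply_gl, actR_single,
        show σ.toAlgHom c ⊗ₜ[k] (1 : A) = algebraMap L (L ⊗[k] A) (σ c) from rfl, AlgHomClass.commutes,
        algebraMap_eq_single, MonoidAlgebra.single_mul_single, one_mul, mul_one]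
      rfl
  have := key ((1 : L) ⊗ₜ[k] x)
  rw [push_tmul, map_one] at this
  exact this.symm

end Split

end Groth.Agent.RetractRat26
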