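import Groth.Agent.RetractRat26.Presentation
import Groth.Agent.IsoTriv.SmoothCocycle
import Mathlib.RingTheory.TensorProduct.MvPolynomial
import Mathlib.Combinatorics.Nullstellensatz
import Mathlib.FieldTheory.Finite.Extension
import Mathlib.RingTheory.Algebraic.Integral
import Mathlib.RingTheory.IntegralClosure.Algebra.Basic
import Mathlib.RingTheory.IntegralClosure.IsIntegralClosure.Basic
import Mathlib.RingTheory.TensorProduct.Quotient
import Mathlib.RingTheory.Flat.Basic
import Mathlib.LinearAlgebra.TensorProduct.Finiteness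
import Mathlib.Algebra.MvPolynomial.Funext
import Mathlib.Algebra.Field.ULift

/-! Points of a retract rational commutative group lift along local algebras. -/

set_option linter.style.haveILetI false
set_option linter.unusedSectionVars false
set_option autoImplicit false
set_option maxHeartbeats 2000000
universe u

open TensorProduct WithConv

noncomputable section

namespace Groth.Agent.RetractRat26

open Groth.Agent.IsoTriv

attribute [local instance 2000] pointsGroup

variable {k : Type u} [Field k] {H : Type u} [CommRing H] [IsDomain H] [HopfAlgebra k H] {n : ℕ}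
  {g : MvPolynomial (Fin n) k} {h : H} (hh : h ≠ 0)
  (α : Localization.Away g →ₐ[k] Localization.Away h) (β : Localization.Away h →ₐ[k] Localization.Away g)
  (hαβ : α.comp β = AlgHom.id k _)
  (hdom : ∀ (K : Type u) [Field K] [Algebra k K], IsDomain (K ⊗[k] H))
  (hcomm : ∀ (X : Type u) [CommRing X] [Algebra k X] (p q : WithConv (H →ₐ[k] X)), p * q = q * p)

include α β hαβ in
/-- A point in the open lifts. -/
theorem lift_of_isUnit {A X : Type u} [CommRing A] [Algebra k A] [CommRing X] [Algebra k X] (π : A →ₐ[k] X)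
    (hπ : Function.Surjective π) [IsLocalHom π.toRingHom] (t : WithConv (H →ₐ[k] X)) (ht : IsUnit (t.ofConv h)) :
    ∃ s : WithConv (H →ₐ[k] A), pointsMap π s = t := by
  classical
  let t' : Localization.Away h →ₐ[k] X :=
    IsLocalization.liftAlgHom (M := Submonoid.powers h) (f := t.ofConv) (fun y => by
      obtain ⟨i, hi⟩ := y.2
      show IsUnit (t.ofConv y)
      rw [← hi, map_pow]; exact ht.pow i)
  have ht' : ∀ a, t' (algebraMap H _ a) = t.ofConv a := fun a => IsLocalization.lift_eq _ a
  let y := t'.comp α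
  choose c hc using fun i : Fin n => hπ (y (algebraMap (MvPolynomial (Fin n) k) (Localization.Away g) (MvPolynomial.X i)))
  let ev : MvPolynomial (Fin n) k →ₐ[k] A := MvPolynomial.aeval c
  have hev : ∀ r, π (ev r) = y (algebraMap _ _ r) := fun r => by
    have h' : π.comp ev = y.comp (IsScalarTower.toAlgHom k (MvPolynomial (Fin n) k) (Localization.Away g)) :=
      MvPolynomial.algHom_ext fun i => by simp [ev, hc]
    exact DFunLike.congr_fun h' r
  have hg : IsUnit (ev g) := by
    refine isUnit_of_map_unit π.toRingHom _ ?_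
    show IsUnit (π (ev g))
    rw [hev]
    exact (IsLocalization.Away.algebraMap_isUnit g).map y
  let ev' : Localization.Away g →ₐ[k] A :=
    IsLocalization.liftAlgHom (M := Submonoid.powers g) (f := ev) (fun z => by
      obtain ⟨i, hi⟩ := z.2
      show IsUnit (ev z)
      rw [← hi, map_pow]; exact hg.pow i)
  have hev' : π.comp ev' = y := IsLocalization.algHom_ext (Submonoid.powers g) (AlgHom.ext fun r => by
    show π (ev' (algebraMap _ _ r)) = y (algebraMap _ _ r)
    rw [← hev r]
    exact congrArg π (IsLocalization.lift_eq _ r))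
  refine ⟨toConv ((ev'.comp β).comp (IsScalarTower.toAlgHom k H (Localization.Away h))), ?_⟩
  refine WithConv.ext (AlgHom.ext fun a => ?_)
  show π (ev' (β (algebraMap H _ a))) = t.ofConv a
  rw [← AlgHom.comp_apply π ev', hev']
  show t' (α (β (algebraMap H _ a))) = _
  rw [← AlgHom.comp_apply α β, hαβ]
  exact ht' a

include hh α β hαβ hdom hcomm in
/-- Every point is, away from a hypersurface, a product of two points of the open. -/
theorem exists_poly {κ : Type u} [Field κ] [Algebra k κ] (x : WithConv (H →ₐ[k] κ)) :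
    ∃ P : MvPolynomial (Fin n) κ, P ≠ 0 ∧ ∀ (X : Type u) [CommRing X] [Algebra k X] [Algebra κ X] [IsScalarTower k κ X]
      (y : Fin n → X), IsUnit (MvPolynomial.aeval y P) → ∃ t : WithConv (H →ₐ[k] X), IsUnit (t.ofConv h) ∧
        IsUnit ((pointsMap (IsScalarTower.toAlgHom k κ X) x * t⁻¹).ofConv h) := by
  classical
  haveI := hdom κ
  let Q := κ ⊗[k] H
  let xQ : WithConv (H →ₐ[k] Q) := pointsMap Algebra.TensorProduct.includeLeft x
  let gen : WithConv (H →ₐ[k] Q) := toConv Algebra.TensorProduct.includeRight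
  let φ := xQ * gen⁻¹
  let Φ : Q →ₐ[k] Q := Algebra.TensorProduct.lift Algebra.TensorProduct.includeLeft φ.ofConv fun _ _ => .all _ _
  have hΦ : pointsMap Φ φ = gen := by
    have h1 : pointsMap Φ gen = φ := WithConv.ext (AlgHom.ext fun a => by
      show Φ ((1 : κ) ⊗ₜ[k] a) = φ.ofConv a
      rw [Algebra.TensorProduct.lift_tmul, map_one, one_mul])
    have h2 : pointsMap Φ xQ = xQ := WithConv.ext (AlgHom.ext fun a => by
      show Φ (x.ofConv a ⊗ₜ[k] (1 : H)) = x.ofConv a ⊗ₜ[k] (1 : H)
      rw [Algebra.TensorProduct.lift_tmul, map_one, mul_one]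
      rfl)
    show pointsMap Φ (xQ * gen⁻¹) = gen
    rw [map_mul, map_inv, h1, h2, mul_inv_rev, inv_inv, hcomm Q gen, mul_inv_cancel_left]
  have hone : (1 : κ) ⊗ₜ[k] h ≠ 0 := fun h0 => hh
    (Algebra.TensorProduct.includeRight_injective (A := κ) (B := H) (RingHom.injective _)
      (h0.trans (map_zero _).symm))
  have hz2 : φ.ofConv h ≠ 0 := fun h0 => hone <| by
    have h1 : (pointsMap Φ φ).ofConv h = gen.ofConv h := by rw [hΦ]
    rw [pointsMap_apply, h0, map_zero] at h1
    exact h1.symm
  set z : Q := ((1 : κ) ⊗ₜ[k] h) * φ.ofConv h with hzdef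
  have hz : z ≠ 0 := mul_ne_zero hone hz2
  obtain ⟨S, hS⟩ := TensorProduct.exists_finset z
  obtain ⟨d, hd⟩ := IsLocalization.exist_integer_multiples_of_finset (Submonoid.powers g)
    (S.image fun i => β (algebraMap H _ i.2))
  choose r hr using fun i : S => hd (β (algebraMap H _ (i : κ × H).2)) (Finset.mem_image_of_mem _ i.2)
  have hr' : ∀ i : S, algebraMap (MvPolynomial (Fin n) k) (Localization.Away g) (r i) =
      algebraMap _ _ (d : MvPolynomial (Fin n) k) * β (algebraMap H _ (i : κ × H).2) := fun i => by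
    rw [hr i, Algebra.smul_def]
  let P0 : MvPolynomial (Fin n) κ := ∑ i : S, (i : κ × H).1 • MvPolynomial.map (algebraMap k κ) (r i)
  have hP0 : P0 ≠ 0 := by
    intro h0
    have h1 : ∑ i : S, (i : κ × H).1 ⊗ₜ[k] r i = 0 := by
      apply (MvPolynomial.algebraTensorAlgEquiv (σ := Fin n) k κ).injective
      rw [map_zero, map_sum, ← h0]
      exact Finset.sum_congr rfl fun i _ => MvPolynomial.algebraTensorAlgEquiv_tmul k κ _ _
    have h2 := congrArg (Algebra.TensorProduct.map (AlgHom.id k κ)
      (α.comp (IsScalarTower.toAlgHom k (MvPolynomial (Fin n) k) (Localization.Away g)))) h1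
    rw [map_sum, map_zero] at h2
    let ι : Q →ₐ[k] κ ⊗[k] Localization.Away h :=
      Algebra.TensorProduct.map (AlgHom.id k κ) (IsScalarTower.toAlgHom k H (Localization.Away h))
    have h3 : ((1 : κ) ⊗ₜ[k] α (algebraMap _ _ (d : MvPolynomial (Fin n) k))) * ι z = 0 := by
      rw [← h2, hS, map_sum, Finset.mul_sum, ← Finset.sum_coe_sort S]
      refine Finset.sum_congr rfl fun i _ => ?_
      simp only [ι, Algebra.TensorProduct.map_tmul, AlgHom.id_apply, Algebra.TensorProduct.tmul_mul_tmul, one_mul,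
        AlgHom.comp_apply, IsScalarTower.coe_toAlgHom', hr', map_mul]
      rw [← AlgHom.comp_apply α β, hαβ, AlgHom.id_apply]
      erw [Algebra.TensorProduct.map_tmul, Algebra.TensorProduct.tmul_mul_tmul, one_mul]
      rfl
    have hu : IsUnit ((1 : κ) ⊗ₜ[k] α (algebraMap _ _ (d : MvPolynomial (Fin n) k))) :=
      ((IsLocalization.map_units (Localization.Away g) d).map α).map
        (Algebra.TensorProduct.includeRight : Localization.Away h →ₐ[k] κ ⊗[k] Localization.Away h)
    have h4 : ι z = 0 := hu.mul_right_eq_zero.1 h3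
    refine hz ((Module.Flat.lTensor_preserves_injective_linearMap (M := κ)
      (IsScalarTower.toAlgHom k H (Localization.Away h)).toLinearMap ?_) (h4.trans (map_zero _).symm))
    exact IsLocalization.injective (Localization.Away h) (powers_le_nonZeroDivisors_of_noZeroDivisors hh)
  have hg : g ≠ 0 := by
    rintro rfl
    haveI : Subsingleton (Localization.Away (0 : MvPolynomial (Fin n) k)) :=
      IsLocalization.subsingleton (M := Submonoid.powers (0 : MvPolynomial (Fin n) k)) ⟨1, pow_one 0⟩
    haveI : Nontrivial (Localization.Away h) :=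
      (IsLocalization.injective (Localization.Away h) (powers_le_nonZeroDivisors_of_noZeroDivisors hh)).nontrivial
    exact zero_ne_one (α := Localization.Away h) (by
      rw [← map_zero α, ← map_one α, Subsingleton.elim (0 : Localization.Away (0 : MvPolynomial (Fin n) k)) 1])
  refine ⟨P0 * MvPolynomial.map (algebraMap k κ) g,
    mul_ne_zero hP0 (by rwa [Ne, map_eq_zero_iff _ (MvPolynomial.map_injective _ (algebraMap k κ).injective)]), ?_⟩
  intro X _ _ _ _ y hy
  rw [map_mul, MvPolynomial.aeval_map_algebraMap] at hy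
  let ev : MvPolynomial (Fin n) k →ₐ[k] X := MvPolynomial.aeval y
  let ev' : Localization.Away g →ₐ[k] X :=
    IsLocalization.liftAlgHom (M := Submonoid.powers g) (f := ev) (fun z => by
      obtain ⟨i, hi⟩ := z.2
      show IsUnit (ev z)
      rw [← hi, map_pow]; exact (isUnit_of_mul_isUnit_right hy).pow i)
  have hev' : ∀ q, ev' (algebraMap _ _ q) = ev q := fun q => IsLocalization.lift_eq _ q
  let t : WithConv (H →ₐ[k] X) := toConv ((ev'.comp β).comp (IsScalarTower.toAlgHom k H (Localization.Away h)))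
  let Et : Q →ₐ[k] X := Algebra.TensorProduct.lift (IsScalarTower.toAlgHom k κ X) t.ofConv fun _ _ => .all _ _
  have hEtx : pointsMap Et xQ = pointsMap (IsScalarTower.toAlgHom k κ X) x := WithConv.ext (AlgHom.ext fun a => by
    show Et (x.ofConv a ⊗ₜ[k] (1 : H)) = _
    rw [Algebra.TensorProduct.lift_tmul, map_one, mul_one]
    rfl)
  have hEtg : pointsMap Et gen = t := WithConv.ext (AlgHom.ext fun a => by
    show Et ((1 : κ) ⊗ₜ[k] a) = _
    rw [Algebra.TensorProduct.lift_tmul, map_one, one_mul])
  have hEz : ev d * Et z = MvPolynomial.aeval y P0 := by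
    rw [hS, map_sum, Finset.mul_sum, map_sum, ← Finset.sum_coe_sort S]
    refine Finset.sum_congr rfl fun i _ => ?_
    rw [Algebra.TensorProduct.lift_tmul, map_smul, MvPolynomial.aeval_map_algebraMap, Algebra.smul_def]
    show ev d * (algebraMap κ X _ * ev' (β (algebraMap H _ _))) = algebraMap κ X _ * ev (r i)
    rw [← hev' (r i), hr', map_mul, hev']
    ring
  have hu : IsUnit (Et z) := isUnit_of_mul_isUnit_right (hEz ▸ isUnit_of_mul_isUnit_left hy)
  rw [hzdef, map_mul, Algebra.TensorProduct.lift_tmul, map_one, one_mul] at hu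
  refine ⟨t, isUnit_of_mul_isUnit_left hu, ?_⟩
  rw [show pointsMap (IsScalarTower.toAlgHom k κ X) x * t⁻¹ = pointsMap Et φ by
    show _ = pointsMap Et (xQ * gen⁻¹)
    rw [map_mul, map_inv, hEtx, hEtg]]
  exact isUnit_of_mul_isUnit_right hu

/-- Invariants of a Galois field extension in a tensor product. -/
theorem mem_range_includeLeft_of_fixed {A K : Type u} [CommRing A] [Algebra k A] [Field K] [Algebra k K] [IsGalois k K]
    [FiniteDimensional k K] (z : A ⊗[k] K)
    (hz : ∀ σ : Gal(K/k), Algebra.TensorProduct.map (AlgHom.id k A) σ.toAlgHom z = z) :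
    z ∈ (Algebra.TensorProduct.includeLeft : A →ₐ[k] A ⊗[k] K).range := by
  classical
  let b := Module.Free.chooseBasis k A
  let E := TensorProduct.equivFinsuppOfBasisLeft (N := K) b
  have hE : ∀ (σ : Gal(K/k)) (z : A ⊗[k] K) i,
      E (Algebra.TensorProduct.map (AlgHom.id k A) σ.toAlgHom z) i = σ (E z i) := by
    intro σ z i
    induction z using TensorProduct.induction_on with
    | zero => simp
    | tmul a c => simp [E, map_smul]
    | add p q hp hq => simp [map_add, hp, hq]
  have hc : ∀ i, E z i ∈ Set.range (algebraMap k K) := fun i =>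
    (IsGalois.mem_range_algebraMap_iff_fixed _).2 fun σ => by rw [← hE, hz σ]
  choose c hc using hc
  refine ⟨∑ i ∈ (E z).support, c i • b i, ?_⟩
  conv_rhs => rw [← E.symm_apply_apply z]
  rw [TensorProduct.equivFinsuppOfBasisLeft_symm_apply, map_sum, Finsupp.sum]
  refine Finset.sum_congr rfl fun i _ => ?_
  rw [← hc i, Algebra.algebraMap_eq_smul_one, TensorProduct.tmul_smul, AlgHom.toRingHom_eq_coe, RingHom.coe_coe, map_smul]
  rfl

theorem isLocalHom_map {A : Type u} [CommRing A] [IsLocalRing A] [Algebra k A] (K : Type u) [Field K] [Algebra k K]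
    [Module.Finite k K] :
    IsLocalHom (Algebra.TensorProduct.map (IsScalarTower.toAlgHom k A (IsLocalRing.ResidueField A))
      (AlgHom.id k K)).toRingHom := by
  constructor
  intro z hz
  set π := IsScalarTower.toAlgHom k A (IsLocalRing.ResidueField A)
  have hπ : Function.Surjective π := IsLocalRing.residue_surjective
  set πm := Algebra.TensorProduct.map π (AlgHom.id k K)
  have hπm : Function.Surjective πm := TensorProduct.map_surjective hπ Function.surjective_id
  obtain ⟨w, hw⟩ := hπm (↑hz.unit⁻¹)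
  refine isUnit_of_mul_isUnit_left (x := z) (y := w) ?_
  have hker : 1 - z * w ∈ RingHom.ker πm := by
    rw [RingHom.mem_ker, map_sub, map_one, map_mul, hw, sub_eq_zero]
    exact hz.mul_val_inv.symm
  have hk' : RingHom.ker πm = (RingHom.ker π).map Algebra.TensorProduct.includeLeft :=
    Algebra.TensorProduct.rTensor_ker π hπ
  rw [hk'] at hker
  by_contra hnu
  obtain ⟨M, hM, hMz⟩ := exists_max_ideal_of_mem_nonunits hnu
  haveI : Algebra.IsIntegral A (A ⊗[k] K) := Algebra.IsIntegral.of_finite A (A ⊗[k] K)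
  haveI := hM
  haveI : (M.comap (algebraMap A (A ⊗[k] K))).IsMaximal := Ideal.isMaximal_comap_of_isIntegral_of_isMaximal M
  have h2 : (RingHom.ker π).map (Algebra.TensorProduct.includeLeft : A →ₐ[k] A ⊗[k] K) ≤ M := by
    rw [Ideal.map_le_iff_le_comap]
    show _ ≤ M.comap (algebraMap A (A ⊗[k] K))
    rw [IsLocalRing.eq_maximalIdeal (inferInstance : (M.comap (algebraMap A (A ⊗[k] K))).IsMaximal)]
    exact le_of_eq IsLocalRing.ker_residue
  exact hM.ne_top ((Ideal.eq_top_iff_one _).2 (by simpa using add_mem (h2 hker) hMz))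

include hcomm in
/-- The norm of a point over a Galois extension. -/
theorem exists_norm {A κ K : Type u} [CommRing A] [Algebra k A] [CommRing κ] [Algebra k κ] [Field K] [Algebra k K]
    [IsGalois k K] [FiniteDimensional k K] (π : A →ₐ[k] κ) (x : WithConv (H →ₐ[k] κ))
    (s : WithConv (H →ₐ[k] A ⊗[k] K))
    (hs : pointsMap (Algebra.TensorProduct.map π (AlgHom.id k K)) s =
      pointsMap (Algebra.TensorProduct.includeLeft : κ →ₐ[k] κ ⊗[k] K) x) :
    ∃ s₀ : WithConv (H →ₐ[k] A), pointsMap π s₀ = x ^ Nat.card Gal(K/k) := by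
  classical
  letI : CommMonoid (WithConv (H →ₐ[k] A ⊗[k] K)) :=
    { (inferInstance : Monoid (WithConv (H →ₐ[k] A ⊗[k] K))) with mul_comm := hcomm _ }
  letI : CommMonoid (WithConv (H →ₐ[k] κ ⊗[k] K)) :=
    { (inferInstance : Monoid (WithConv (H →ₐ[k] κ ⊗[k] K))) with mul_comm := hcomm _ }
  letI : Fintype Gal(K/k) := Fintype.ofFinite _
  let πm := Algebra.TensorProduct.map π (AlgHom.id k K)
  let σA : Gal(K/k) → (A ⊗[k] K →ₐ[k] A ⊗[k] K) := fun σ => Algebra.TensorProduct.map (AlgHom.id k A) σ.toAlgHom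
  let σX : Gal(K/k) → (κ ⊗[k] K →ₐ[k] κ ⊗[k] K) := fun σ => Algebra.TensorProduct.map (AlgHom.id k κ) σ.toAlgHom
  set S : WithConv (H →ₐ[k] A ⊗[k] K) := ∏ σ : Gal(K/k), pointsMap (σA σ) s with hSdef
  have hSfix : ∀ τ : Gal(K/k), pointsMap (σA τ) S = S := fun τ => by
    rw [hSdef, map_prod]
    refine Fintype.prod_equiv (Equiv.mulLeft τ) _ _ fun σ => ?_
    rw [pointsMap_comp]
    congr 2
    exact Algebra.TensorProduct.ext' fun a c => rfl
  have hSπ : pointsMap πm S = (pointsMap (Algebra.TensorProduct.includeLeft : κ →ₐ[k] κ ⊗[k] K) x) ^ Nat.card Gal(K/k) := by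
    rw [hSdef, map_prod]
    have hσ : ∀ σ : Gal(K/k), pointsMap πm (pointsMap (σA σ) s) =
        pointsMap (Algebra.TensorProduct.includeLeft : κ →ₐ[k] κ ⊗[k] K) x := fun σ => by
      rw [pointsMap_comp, show πm.comp (σA σ) = (σX σ).comp πm from Algebra.TensorProduct.ext' fun a c => rfl,
        ← pointsMap_comp, hs, pointsMap_comp]
      congr 2
      exact AlgHom.ext fun a => congrArg (a ⊗ₜ[k] ·) (map_one σ)
    rw [Finset.prod_congr rfl fun σ _ => hσ σ, Finset.prod_const, Finset.card_univ, Fintype.card_eq_nat_card]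
  let ιm : A →ₐ[k] A ⊗[k] K := Algebra.TensorProduct.includeLeft
  have hdesc : ∀ a, S.ofConv a ∈ ιm.range := fun a =>
    mem_range_includeLeft_of_fixed (S.ofConv a) fun σ =>
      congrArg (fun f : WithConv (H →ₐ[k] A ⊗[k] K) => f.ofConv a) (hSfix σ)
  have hιm : Function.Injective ιm := Algebra.TensorProduct.includeLeft_injective (algebraMap k K).injective
  have hιX : Function.Injective (Algebra.TensorProduct.includeLeft : κ →ₐ[k] κ ⊗[k] K) :=
    Algebra.TensorProduct.includeLeft_injective (algebraMap k K).injective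
  let s₀ : WithConv (H →ₐ[k] A) := toConv ((AlgEquiv.ofInjective ιm hιm).symm.toAlgHom.comp
    (S.ofConv.codRestrict ιm.range hdesc))
  have hs₀ : pointsMap ιm s₀ = S := WithConv.ext (AlgHom.ext fun a =>
    congrArg Subtype.val ((AlgEquiv.ofInjective ιm hιm).apply_symm_apply ⟨S.ofConv a, hdesc a⟩))
  refine ⟨s₀, WithConv.ext (AlgHom.ext fun a => hιX ?_)⟩
  have h1 : pointsMap (Algebra.TensorProduct.includeLeft : κ →ₐ[k] κ ⊗[k] K) (pointsMap π s₀) =
      pointsMap (Algebra.TensorProduct.includeLeft : κ →ₐ[k] κ ⊗[k] K) (x ^ Nat.card Gal(K/k)) := by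
    rw [map_pow, ← hSπ, ← hs₀, pointsMap_comp, pointsMap_comp]
    congr 2
  exact congrArg (fun f : WithConv (H →ₐ[k] κ ⊗[k] K) => f.ofConv a) h1

include α β hαβ hcomm in
/-- A lift of a power through a Galois extension of the base field. -/
theorem exists_lift_pow {A : Type u} [CommRing A] [IsLocalRing A] [Algebra k A]
    (x : WithConv (H →ₐ[k] IsLocalRing.ResidueField A)) (P Q' : MvPolynomial (Fin n) (IsLocalRing.ResidueField A))
    (P' : MvPolynomial (Fin n) k) (hQ' : MvPolynomial.map (algebraMap k (IsLocalRing.ResidueField A)) P' = P * Q')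
    (hP'0 : P' ≠ 0)
    (hPt : ∀ (X : Type u) [CommRing X] [Algebra k X] [Algebra (IsLocalRing.ResidueField A) X]
      [IsScalarTower k (IsLocalRing.ResidueField A) X]
      (y : Fin n → X), IsUnit (MvPolynomial.aeval y P) → ∃ t : WithConv (H →ₐ[k] X), IsUnit (t.ofConv h) ∧
        IsUnit ((pointsMap (IsScalarTower.toAlgHom k (IsLocalRing.ResidueField A) X) x * t⁻¹).ofConv h))
    (K : Type u) [Field K] [Finite K] [Algebra k K] [IsGalois k K] [FiniteDimensional k K]
    (hcard : ∀ i, MvPolynomial.degreeOf i P' < Nat.card K) :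
    ∃ s : WithConv (H →ₐ[k] A),
      pointsMap (IsScalarTower.toAlgHom k A (IsLocalRing.ResidueField A)) s = x ^ Nat.card Gal(K/k) := by
  classical
  letI : Fintype K := Fintype.ofFinite K
  obtain ⟨y, hy⟩ : ∃ y : Fin n → K, MvPolynomial.aeval y P' ≠ 0 := by
    by_contra hall
    simp only [not_exists, not_not] at hall
    apply hP'0
    apply MvPolynomial.map_injective _ (algebraMap k K).injective
    rw [map_zero]
    refine MvPolynomial.eq_zero_of_eval_zero_at_prod_finset _ (fun _ => Finset.univ) (fun i => ?_) (fun y _ => ?_)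
    · rw [MvPolynomial.degreeOf_def, MvPolynomial.degrees_map_of_injective _ (algebraMap k K).injective,
        ← MvPolynomial.degreeOf_def, Finset.card_univ, Fintype.card_eq_nat_card]
      exact hcard i
    · rw [MvPolynomial.eval_map, ← MvPolynomial.aeval_def]
      exact hall y
  set π := IsScalarTower.toAlgHom k A (IsLocalRing.ResidueField A) with hπdef
  let πm : A ⊗[k] K →ₐ[k] IsLocalRing.ResidueField A ⊗[k] K := Algebra.TensorProduct.map π (AlgHom.id k K)
  have hπm : Function.Surjective πm := TensorProduct.map_surjective IsLocalRing.residue_surjective Function.surjective_id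
  haveI : IsLocalHom πm.toRingHom := isLocalHom_map (k := k) (A := A) K
  let yX : Fin n → IsLocalRing.ResidueField A ⊗[k] K := fun i => Algebra.TensorProduct.includeRight (y i)
  obtain ⟨t, ht1, ht2⟩ := hPt (IsLocalRing.ResidueField A ⊗[k] K) yX (by
    have h1 : IsUnit (MvPolynomial.aeval yX (MvPolynomial.map (algebraMap k (IsLocalRing.ResidueField A)) P')) := by
      rw [MvPolynomial.aeval_map_algebraMap, ← MvPolynomial.comp_aeval_apply]
      exact hy.isUnit.map _
    rw [hQ', map_mul] at h1
    exact isUnit_of_mul_isUnit_left h1)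
  obtain ⟨s₁, hs₁⟩ := lift_of_isUnit α β hαβ πm hπm t ht1
  obtain ⟨s₂, hs₂⟩ := lift_of_isUnit α β hαβ πm hπm _ ht2
  exact exists_norm hcomm (K := K) π x (s₂ * s₁) (by
    rw [map_mul, hs₁, hs₂, inv_mul_cancel_right]
    exact WithConv.ext (AlgHom.ext fun a => rfl))

include hh α β hαβ hdom hcomm in
/-- Points over the residue field of a local algebra lift. -/
theorem exists_lift (A : Type u) [CommRing A] [IsLocalRing A] [Algebra k A]
    (x : WithConv (H →ₐ[k] IsLocalRing.ResidueField A)) :
    ∃ s : WithConv (H →ₐ[k] A), pointsMap (IsScalarTower.toAlgHom k A (IsLocalRing.ResidueField A)) s = x := by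
  classical
  set κ := IsLocalRing.ResidueField A
  set π := IsScalarTower.toAlgHom k A κ
  have hπ : Function.Surjective π := IsLocalRing.residue_surjective
  obtain ⟨P, hP, hPt⟩ := exists_poly hh α β hαβ hdom hcomm x
  by_cases hκ : Infinite κ
  · obtain ⟨y, hy⟩ : ∃ y : Fin n → κ, MvPolynomial.eval y P ≠ 0 := by
      by_contra hall
      simp only [not_exists, not_not] at hall
      exact hP (MvPolynomial.funext fun y => by rw [hall y, map_zero])
    obtain ⟨t, ht1, ht2⟩ := hPt κ y (by
      rw [MvPolynomial.aeval_eq_eval]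
      exact hy.isUnit)
    haveI : IsLocalHom π.toRingHom := inferInstanceAs (IsLocalHom (IsLocalRing.residue A))
    obtain ⟨s₁, hs₁⟩ := lift_of_isUnit α β hαβ π hπ t ht1
    obtain ⟨s₂, hs₂⟩ := lift_of_isUnit α β hαβ π hπ _ ht2
    refine ⟨s₂ * s₁, ?_⟩
    rw [map_mul, hs₁, hs₂, inv_mul_cancel_right]
    exact WithConv.ext (AlgHom.ext fun a => rfl)
  rw [not_infinite_iff_finite] at hκ
  haveI := hκ
  haveI : Finite k := Finite.of_injective _ (algebraMap k κ).injective
  haveI : Module.Finite k κ := Module.Finite.of_finite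
  letI : Algebra (MvPolynomial (Fin n) k) (MvPolynomial (Fin n) κ) := MvPolynomial.algebraMvPolynomial
  obtain ⟨P', hP'0, hP'⟩ := (Algebra.IsAlgebraic.isAlgebraic (R := MvPolynomial (Fin n) k) P).exists_nonzero_dvd
    (mem_nonZeroDivisors_of_ne_zero hP)
  obtain ⟨Q', hQ'⟩ := hP'
  obtain ⟨p, hpk⟩ := CharP.exists k
  haveI : Fact p.Prime := ⟨CharP.char_is_prime k p⟩
  suffices key : ∀ m : ℕ, (∀ i, MvPolynomial.degreeOf i P' < m) → 0 < m →
      ∃ s : WithConv (H →ₐ[k] A), pointsMap π s = x ^ m by
    obtain ⟨s₀, hs₀⟩ := key (Finset.univ.sup (fun i => MvPolynomial.degreeOf i P') + 1)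
      (fun i => Nat.lt_succ_of_le (Finset.le_sup (f := fun i => MvPolynomial.degreeOf i P') (Finset.mem_univ i)))
      (Nat.succ_pos _)
    obtain ⟨s₁, hs₁⟩ := key (Finset.univ.sup (fun i => MvPolynomial.degreeOf i P') + 1 + 1)
      (fun i => Nat.lt_succ_of_lt (Nat.lt_succ_of_le
        (Finset.le_sup (f := fun i => MvPolynomial.degreeOf i P') (Finset.mem_univ i))))
      (Nat.succ_pos _)
    exact ⟨s₀⁻¹ * s₁, by rw [map_mul, map_inv, hs₀, hs₁]; exact inv_mul_eq_iff_eq_mul.2 (pow_succ x _)⟩
  intro m hm hm0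
  haveI : NeZero m := ⟨hm0.ne'⟩
  let E := ULift.{u} (FiniteField.Extension k p m)
  haveI : Finite E := Finite.of_equiv (FiniteField.Extension k p m) Equiv.ulift.symm
  let e : FiniteField.Extension k p m ≃ₐ[k] E := ULift.algEquiv.symm
  haveI : Module.Finite k E := Module.Finite.equiv e.toLinearEquiv
  haveI : IsGalois k E := IsGalois.of_algEquiv e
  obtain ⟨s, hs⟩ := exists_lift_pow α β hαβ hcomm x P Q' P' hQ' hP'0 (fun X => hPt X) E (fun i => by
    rw [Nat.card_congr Equiv.ulift, FiniteField.natCard_extension]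
    exact (hm i).trans (Nat.lt_pow_self (Finite.one_lt_card (α := k))))
  refine ⟨s, hs.trans ?_⟩
  rw [IsGalois.card_aut_eq_finrank, ← e.toLinearEquiv.finrank_eq, FiniteField.finrank_extension]

end Groth.Agent.RetractRat26
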