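import Mathlib.FieldTheory.SeparablyGenerated
import Mathlib.FieldTheory.PrimitiveElement
import Mathlib.RingTheory.Polynomial.GaussLemma
import Mathlib.RingTheory.DiscreteValuationRing.TFAE
import Mathlib.RingTheory.Polynomial.UniqueFactorization
import Mathlib.RingTheory.UniqueFactorizationDomain.Ideal
import Mathlib.RingTheory.Localization.AtPrime.Basic
import Mathlib.RingTheory.Unramified.Field
import Mathlib.RingTheory.Nilpotent.GeometricallyReduced
import Mathlib.Algebra.MvPolynomial.Equiv
import Mathlib.RingTheory.FiniteType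

/-! Function fields of geometrically reduced affine varieties as residue fields of discrete valuation rings,
and retractions from lifts at those rings. -/

set_option linter.style.haveILetI false
set_option linter.unusedSectionVars false
set_option autoImplicit false
universe u

open TensorProduct

noncomputable section

namespace Groth.Agent.RetractRat26

variable {k : Type u} [Field k] {H : Type u} [CommRing H] [IsDomain H] [Algebra k H]
  {F : Type u} [Field F] [Algebra k F] [Algebra H F] [IsScalarTower k H F] [IsFractionRing H F]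

theorem linearIndepOn_pow (p : ℕ) (hp : p.Prime) [CharP k p] [IsReduced (AlgebraicClosure k ⊗[k] H)]
    (s : Finset F) (hs : LinearIndepOn k _root_.id (s : Set F)) : LinearIndepOn k (· ^ p) (s : Set F) := by
  classical
  haveI := Fact.mk hp
  obtain ⟨d, hd⟩ := IsLocalization.exist_integer_multiples_of_finset (nonZeroDivisors H) s
  choose y hy using fun x : s => hd x x.2
  have hd0 : algebraMap H F d ≠ 0 := IsFractionRing.to_map_ne_zero_of_mem_nonZeroDivisors d.2
  have hy' : ∀ x : s, algebraMap H F (y x) = algebraMap H F d * x := fun x => by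
    rw [hy x, Algebra.smul_def]
  have hyi : LinearIndependent k y := by
    rw [Fintype.linearIndependent_iff]
    intro c hc
    have h1 : algebraMap H F d * ∑ x : s, c x • (x : F) = 0 := by
      rw [Finset.mul_sum, ← map_zero (algebraMap H F), ← hc, map_sum]
      refine Finset.sum_congr rfl fun x _ => ?_
      rw [mul_smul_comm, ← hy', Algebra.smul_def, Algebra.smul_def, map_mul, ← IsScalarTower.algebraMap_apply]
    exact Fintype.linearIndependent_iff.1 hs c ((mul_eq_zero.1 h1).resolve_left hd0)
  show LinearIndependent k fun x : (s : Set F) => (x : F) ^ p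
  rw [Fintype.linearIndependent_iff]
  intro c hc
  choose e he using fun x : s => IsAlgClosed.exists_pow_nat_eq (algebraMap k (AlgebraicClosure k) (c x)) hp.pos
  let T := AlgebraicClosure k ⊗[k] H
  haveI : CharP (AlgebraicClosure k) p := charP_of_injective_ringHom (algebraMap k (AlgebraicClosure k)).injective p
  haveI : Nontrivial T := (Algebra.TensorProduct.includeRight_injective (A := AlgebraicClosure k) (B := H)
    (RingHom.injective _)).nontrivial
  haveI : CharP T p := charP_of_injective_ringHom (algebraMap (AlgebraicClosure k) T).injective p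
  let z : T := ∑ x : s, e x ⊗ₜ[k] y x
  have hz : z ^ p = 0 := by
    have h0 : ∑ x : s, c x • y x ^ p = 0 := by
      apply IsFractionRing.injective H F
      rw [map_sum, map_zero]
      calc ∑ x : s, algebraMap H F (c x • y x ^ p)
          = algebraMap H F d ^ p * ∑ x : s, c x • (x : F) ^ p := by
            rw [Finset.mul_sum]
            refine Finset.sum_congr rfl fun x _ => ?_
            rw [mul_smul_comm, ← mul_pow, ← hy', Algebra.smul_def, Algebra.smul_def, map_mul, map_pow,
              ← IsScalarTower.algebraMap_apply]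
        _ = 0 := by rw [show ∑ x : s, c x • (x : F) ^ p = 0 from hc, mul_zero]
    show (∑ x : s, e x ⊗ₜ[k] y x) ^ p = 0
    rw [sum_pow_char p]
    calc ∑ x : s, (e x ⊗ₜ[k] y x) ^ p = (1 : AlgebraicClosure k) ⊗ₜ[k] ∑ x : s, c x • y x ^ p := by
          rw [TensorProduct.tmul_sum]
          refine Finset.sum_congr rfl fun x _ => ?_
          rw [Algebra.TensorProduct.tmul_pow, he, TensorProduct.tmul_smul, TensorProduct.smul_tmul',
            Algebra.algebraMap_eq_smul_one]
      _ = 0 := by rw [h0, TensorProduct.tmul_zero]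
  have hz0 : z = 0 := IsNilpotent.eq_zero ⟨p, hz⟩
  obtain ⟨g, hg⟩ := LinearMap.exists_leftInverse_of_injective (Fintype.linearCombination k y)
    (LinearMap.ker_eq_bot.2 hyi.fintypeLinearCombination_injective)
  refine fun (x : s) => ?_
  have hgy : ∀ x' : s, g (y x') x = if x' = x then 1 else 0 := fun x' => by
    have h2 := DFunLike.congr_fun hg (Pi.single x' (1 : k))
    simp only [LinearMap.comp_apply, Fintype.linearCombination_apply_single, one_smul, LinearMap.id_apply] at h2
    rw [h2, Pi.single_apply]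
    exact if_congr eq_comm rfl rfl
  let L : T →ₗ[k] AlgebraicClosure k :=
    (TensorProduct.rid k (AlgebraicClosure k)).toLinearMap ∘ₗ ((LinearMap.proj x ∘ₗ g).lTensor _)
  have hL : ∀ (a : AlgebraicClosure k) (b : H), L (a ⊗ₜ[k] b) = g b x • a := fun a b => rfl
  have h2 : L z = e x := by
    show L (∑ x' : s, e x' ⊗ₜ[k] y x') = _
    rw [map_sum]
    refine (Finset.sum_eq_single x ?_ ?_).trans ?_
    rotate_left 2
    · rw [hL, hgy, if_pos rfl, one_smul]
    · intro x' _ hx'
      rw [hL, hgy, if_neg hx', zero_smul]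
    · exact fun h => absurd (Finset.mem_univ x) h
  rw [hz0, map_zero] at h2
  have h3 := he x
  rw [← h2, zero_pow hp.ne_zero] at h3
  exact ((map_eq_zero _).1 h3.symm)

omit [IsDomain H] in
theorem essFiniteType_fractions [Algebra.FiniteType k H] : Algebra.EssFiniteType k F := by
  haveI := Algebra.EssFiniteType.of_isLocalization F (nonZeroDivisors H)
  exact Algebra.EssFiniteType.comp k H F

variable (H) in
theorem exists_sepBasis [Algebra.FiniteType k H] [IsReduced (AlgebraicClosure k ⊗[k] H)] :
    ∃ s : Finset F, IsTranscendenceBasis k ((↑) : s → F) ∧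
      Algebra.IsSeparable (IntermediateField.adjoin k (s : Set F)) F := by
  haveI := essFiniteType_fractions (k := k) (H := H) (F := F)
  obtain _ | ⟨p, hp, hpk⟩ := CharP.exists' k
  · exact exists_isTranscendenceBasis_and_isSeparable_of_perfectField k F
  · haveI : ExpChar k p := .prime hp.out
    exact exists_isTranscendenceBasis_and_isSeparable_of_linearIndepOn_pow_of_essFiniteType p hp.out
      fun s hs => linearIndepOn_pow (H := H) p hp.out s hs

/-- A separably generated field is the fraction field of a principal prime quotient of a polynomial ring. -/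
theorem exists_presentation [Algebra.EssFiniteType k F] (s : Finset F) (hs : IsTranscendenceBasis k ((↑) : s → F))
    (hsep : Algebra.IsSeparable (IntermediateField.adjoin k (s : Set F)) F) :
    ∃ (n : ℕ) (φ : MvPolynomial (Fin (n + 1)) k →ₐ[k] F), (RingHom.ker φ).IsPrincipal ∧ RingHom.ker φ ≠ ⊥ ∧
      ∀ z : F, ∃ a b, φ b ≠ 0 ∧ z = φ a / φ b := by
  classical
  let K0 := IntermediateField.adjoin k (s : Set F)
  haveI : Algebra.EssFiniteType K0 F := Algebra.EssFiniteType.of_comp k K0 F
  haveI : Algebra.FormallyUnramified K0 F := Algebra.FormallyUnramified.of_isSeparable K0 F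
  haveI : FiniteDimensional K0 F := Algebra.FormallyUnramified.finite_of_free K0 F
  obtain ⟨θ₀, hθ₀⟩ := Field.exists_primitive_element K0 F
  -- a primitive element outside the basis
  let x : Fin s.card → F := fun i => (s.equivFin.symm i : F)
  have hxr : Set.range x = (s : Set F) := by
    ext z
    constructor
    · rintro ⟨i, rfl⟩; exact (s.equivFin.symm i).2
    · exact fun hz => ⟨s.equivFin ⟨z, hz⟩, by simp [x]⟩
  have hx : AlgebraicIndependent k x := hs.1.comp _ s.equivFin.symm.injective
  let φ : MvPolynomial (Fin (s.card + 1)) k →ₐ[k] F := MvPolynomial.aeval (Fin.cons θ₀ x)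
  have hgen : IntermediateField.adjoin k (Set.range (Fin.cons θ₀ x : Fin (s.card + 1) → F)) = ⊤ := by
    rw [Fin.range_cons, hxr, ← Set.union_singleton, ← IntermediateField.adjoin_adjoin_left]
    rw [show IntermediateField.adjoin K0 {θ₀} = ⊤ from hθ₀, IntermediateField.restrictScalars_top]
  have hfrac : ∀ z : F, ∃ a b, φ b ≠ 0 ∧ z = φ a / φ b := fun z => by
    obtain ⟨a, b, hab⟩ := (IntermediateField.mem_adjoin_range_iff k _ z).1 (hgen ▸ IntermediateField.mem_top)
    by_cases hb : φ b = 0
    · exact ⟨0, 1, by simp, by rw [hab, show MvPolynomial.aeval (Fin.cons θ₀ x) b = 0 from hb]; simp⟩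
    · exact ⟨a, b, hb, hab⟩
  have hne : RingHom.ker φ ≠ ⊥ := by
    intro h
    have hi : AlgebraicIndependent k (Fin.cons θ₀ x : Fin (s.card + 1) → F) := by
      rw [algebraicIndependent_iff]
      intro g hg
      have : g ∈ RingHom.ker φ := hg
      rwa [h, Ideal.mem_bot] at this
    have h2 := hs.2 (Set.range (Fin.cons θ₀ x : Fin (s.card + 1) → F)) hi.coe_range (by
      rw [Fin.range_cons, hxr, Subtype.range_coe_subtype]
      exact fun z hz => Set.mem_insert_of_mem _ hz)
    rw [Subtype.range_coe_subtype] at h2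
    have h3 : θ₀ ∈ Set.range (Fin.cons θ₀ x : Fin (s.card + 1) → F) := ⟨0, rfl⟩
    rw [← h2] at h3
    obtain ⟨i, hi'⟩ : θ₀ ∈ Set.range x := hxr ▸ h3
    exact absurd (hi.injective (a₁ := i.succ) (a₂ := 0) (by simpa using hi')) (Fin.succ_ne_zero i)
  refine ⟨s.card, φ, ?_, hne, hfrac⟩
  -- principality
  let P := MvPolynomial (Fin s.card) k
  letI : Algebra P F := (MvPolynomial.aeval x).toRingHom.toAlgebra
  haveI : IsScalarTower k P F := .of_algebraMap_eq fun a => ((MvPolynomial.aeval x).commutes a).symm
  haveI : FaithfulSMul P F := (faithfulSMul_iff_algebraMap_injective P F).2 hx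
  letI := FractionRing.liftAlgebra P F
  let e := MvPolynomial.finSuccEquiv k s.card
  have hψ : ∀ g : Polynomial P, φ (e.symm g) = Polynomial.aeval θ₀ g := by
    intro g
    have h : φ = ((Polynomial.aeval (R := P) θ₀).restrictScalars k).comp e.toAlgHom := by
      refine MvPolynomial.algHom_ext fun i => ?_
      show φ (MvPolynomial.X i) = Polynomial.aeval θ₀ (e (MvPolynomial.X i))
      refine Fin.cases ?_ (fun j => ?_) i
      · simp [φ, e, MvPolynomial.finSuccEquiv_X_zero]
      · simp only [φ, e, MvPolynomial.finSuccEquiv_X_succ, Polynomial.aeval_C, MvPolynomial.aeval_X, Fin.cons_succ]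
        exact (MvPolynomial.aeval_X x j).symm
    exact (DFunLike.congr_fun h (e.symm g)).trans (congrArg (Polynomial.aeval θ₀) (e.apply_symm_apply g))
  set p := RingHom.ker (Polynomial.aeval (R := P) θ₀) with hpdef
  have hmem : ∀ g, g ∈ p ↔ e.symm g ∈ RingHom.ker φ := fun g => by
    rw [RingHom.mem_ker, RingHom.mem_ker, hψ]
  haveI hp : p.IsPrime := RingHom.ker_isPrime _
  have hp0 : p ≠ ⊥ := by
    obtain ⟨g, hg, hg0⟩ := Submodule.exists_mem_ne_zero_of_ne_bot hne
    intro h
    have : e g ∈ p := by rw [hmem, AlgEquiv.symm_apply_apply]; exact hg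
    rw [h, Ideal.mem_bot] at this
    exact hg0 (EmbeddingLike.map_eq_zero_iff.1 this)
  obtain ⟨f, hfp, hf⟩ := hp.exists_mem_prime_of_ne_bot hp0
  have hfdeg : f.natDegree ≠ 0 := by
    intro h
    obtain ⟨c, hc⟩ := Polynomial.natDegree_eq_zero.1 h
    have : algebraMap P F c = 0 := by
      have := RingHom.mem_ker.1 hfp
      rwa [← hc, Polynomial.aeval_C] at this
    exact hf.ne_zero (by rw [← hc, (map_eq_zero_iff _ (FaithfulSMul.algebraMap_injective P F)).1 this, map_zero])
  have hfprim : f.IsPrimitive := hf.irreducible.isPrimitive hfdeg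
  let Q := FractionRing P
  letI : NormalizedGCDMonoid P := Classical.choice inferInstance
  have hfirr : Irreducible (f.map (algebraMap P Q)) :=
    (hfprim.irreducible_iff_irreducible_map_fraction_map (K := Q)).1 hf.irreducible
  have hfdvd : ∀ g ∈ p, f ∣ g := by
    intro g hg
    rcases eq_or_ne g 0 with rfl | hg0
    · exact dvd_zero f
    rw [g.eq_C_content_mul_primPart]
    refine Dvd.dvd.mul_left ?_ _
    refine (hfprim.dvd_iff_fraction_map_dvd_fraction_map Q).2 ?_
    have h1 : Polynomial.aeval θ₀ g.primPart = 0 := by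
      have h := RingHom.mem_ker.1 hg
      rw [g.eq_C_content_mul_primPart, map_mul, Polynomial.aeval_C, mul_eq_zero] at h
      exact h.resolve_left (fun h => hg0 (Polynomial.content_eq_zero_iff.1
        ((map_eq_zero_iff _ (FaithfulSMul.algebraMap_injective P F)).1 h)))
    have h2 : minpoly Q θ₀ ∣ f.map (algebraMap P Q) :=
      minpoly.dvd Q θ₀ (by rw [Polynomial.aeval_map_algebraMap]; exact RingHom.mem_ker.1 hfp)
    have h3 : minpoly Q θ₀ ∣ g.primPart.map (algebraMap P Q) :=
      minpoly.dvd Q θ₀ (by rw [Polynomial.aeval_map_algebraMap]; exact h1)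
    have hint : IsIntegral Q θ₀ := IsAlgebraic.isIntegral
      ⟨_, hfirr.ne_zero, by rw [Polynomial.aeval_map_algebraMap]; exact RingHom.mem_ker.1 hfp⟩
    exact (((hfirr.dvd_iff.1 h2).resolve_left (minpoly.not_isUnit Q θ₀))).dvd.trans h3
  refine ⟨e.symm f, le_antisymm (fun g hg => ?_) ?_⟩
  · have h : f ∣ e g := hfdvd _ (by rw [hmem, AlgEquiv.symm_apply_apply]; exact hg)
    obtain ⟨q, hq⟩ := h
    exact Ideal.mem_span_singleton'.2 ⟨e.symm q, by rw [← map_mul, mul_comm, ← hq, AlgEquiv.symm_apply_apply]⟩
  · rw [Submodule.span_le, Set.singleton_subset_iff]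
    exact (hmem f).1 hfp

/-- The local ring at a nonzero principal prime is a discrete valuation ring. -/
theorem isDiscreteValuationRing_atPrime {R : Type u} [CommRing R] [IsDomain R] [IsNoetherianRing R] (p : Ideal R)
    [p.IsPrime] (hp : p.IsPrincipal) (hp0 : p ≠ ⊥) : IsDiscreteValuationRing (Localization.AtPrime p) := by
  have h1 : IsLocalRing.maximalIdeal (Localization.AtPrime p) = p.map (algebraMap R _) :=
    (Localization.AtPrime.map_eq_maximalIdeal).symm
  have hne : IsLocalRing.maximalIdeal (Localization.AtPrime p) ≠ ⊥ := fun h => hp0 <| by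
    rw [h1, Ideal.map_eq_bot_iff_of_injective (IsLocalization.injective _ p.primeCompl_le_nonZeroDivisors)] at h
    exact h
  haveI : IsNoetherianRing (Localization.AtPrime p) := IsLocalization.isNoetherianRing p.primeCompl _ inferInstance
  refine ((IsDiscreteValuationRing.TFAE (Localization.AtPrime p)
    (IsLocalRing.isField_iff_maximalIdeal_eq.not.2 hne)).out 4 0).1 ?_
  obtain ⟨f, hf⟩ := hp
  exact ⟨algebraMap R _ f, h1.trans ((congrArg (Ideal.map _) hf).trans (by rw [← Ideal.span, Ideal.map_span, Set.image_singleton]))⟩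

section Spread

variable {R : Type u} [CommRing R] [IsDomain R] [Algebra k R] [Algebra.FiniteType k R] [Algebra.FiniteType k H]

/-- Two basic opens with a map and a left inverse after restriction give a retraction. -/
theorem exists_retract_of_pair {g₁ : R} {h : H} (hh0 : h ≠ 0) (σ' : H →ₐ[k] Localization.Away g₁)
    (α₁ : Localization.Away g₁ →ₐ[k] Localization.Away h) (hcomp : ∀ a, α₁ (σ' a) = algebraMap H _ a) :
    ∃ (h : H) (g : R) (α : Localization.Away g →ₐ[k] Localization.Away h)
      (β : Localization.Away h →ₐ[k] Localization.Away g), h ≠ 0 ∧ α.comp β = AlgHom.id k _ := by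
  obtain ⟨⟨r, s⟩, hrs⟩ := IsLocalization.surj (Submonoid.powers g₁) (σ' h)
  let g₂ : R := g₁ * r
  let B := Localization.Away g₂
  have hg₁u : IsUnit (algebraMap R B g₁) :=
    isUnit_of_dvd_unit (map_dvd _ (dvd_mul_right g₁ r)) (IsLocalization.Away.algebraMap_isUnit g₂)
  let res : Localization.Away g₁ →ₐ[k] B :=
    IsLocalization.liftAlgHom (M := Submonoid.powers g₁) (f := IsScalarTower.toAlgHom k R B) (fun y => by
      obtain ⟨n, hn⟩ := y.2
      show IsUnit (algebraMap R B y)
      rw [← hn, map_pow]; exact hg₁u.pow n)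
  have hres : ∀ z, res (algebraMap R _ z) = algebraMap R B z := fun z => IsLocalization.lift_eq _ z
  have hu : IsUnit (res (σ' h)) := by
    have h1 := congrArg res hrs
    rw [map_mul, hres, hres] at h1
    have h2 : IsUnit (algebraMap R B r) :=
      isUnit_of_dvd_unit (map_dvd _ (dvd_mul_left r g₁)) (IsLocalization.Away.algebraMap_isUnit g₂)
    exact isUnit_of_mul_isUnit_left (h1 ▸ h2)
  let β : Localization.Away h →ₐ[k] B :=
    IsLocalization.liftAlgHom (M := Submonoid.powers h) (f := res.comp σ') (fun y => by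
      obtain ⟨n, hn⟩ := y.2
      show IsUnit (res (σ' y))
      rw [← hn, map_pow, map_pow]; exact hu.pow n)
  have hgu : IsUnit (α₁ (algebraMap R _ g₂)) := by
    rw [map_mul, map_mul]
    refine ((IsLocalization.Away.algebraMap_isUnit g₁).map α₁).mul ?_
    rw [← hrs, map_mul, hcomp]
    exact (IsLocalization.Away.algebraMap_isUnit h).mul (((IsLocalization.map_units _ s)).map α₁)
  let α : B →ₐ[k] Localization.Away h :=
    IsLocalization.liftAlgHom (M := Submonoid.powers g₂)
      (f := α₁.comp (IsScalarTower.toAlgHom k R (Localization.Away g₁))) (fun y => by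
      obtain ⟨n, hn⟩ := y.2
      show IsUnit (α₁ (algebraMap R _ y))
      rw [← hn, map_pow, map_pow]; exact hgu.pow n)
  refine ⟨h, g₂, α, β, hh0, ?_⟩
  have hαres : α.comp res = α₁ := IsLocalization.algHom_ext (Submonoid.powers g₁) (AlgHom.ext fun z => by
    show α (res (algebraMap R _ z)) = α₁ (algebraMap R _ z)
    rw [hres]
    exact IsLocalization.lift_eq _ z)
  refine IsLocalization.algHom_ext (Submonoid.powers h) (AlgHom.ext fun a => ?_)
  show α (β (algebraMap H _ a)) = algebraMap H _ a
  rw [show β (algebraMap H _ a) = res (σ' a) from IsLocalization.lift_eq _ a, ← AlgHom.comp_apply, hαres, hcomp]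

/-- A lift of the generic point to the local ring of the presentation gives a retraction. -/
theorem exists_retract (φ : R →ₐ[k] F) (p : Ideal R) [p.IsPrime] (hp : RingHom.ker φ = p)
    (σ : H →ₐ[k] Localization.AtPrime p)
    (hσ : ∀ (a : H) (r : R) (b : p.primeCompl), σ a = IsLocalization.mk' _ r b → φ r = algebraMap H F a * φ b) :
    ∃ (h : H) (g : R) (α : Localization.Away g →ₐ[k] Localization.Away h)
      (β : Localization.Away h →ₐ[k] Localization.Away g), h ≠ 0 ∧ α.comp β = AlgHom.id k _ := by
  classical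
  obtain ⟨tH, htH⟩ := (inferInstance : Algebra.FiniteType k H).out
  obtain ⟨tR, htR⟩ := (inferInstance : Algebra.FiniteType k R).out
  choose num den hnd using fun a : H => IsLocalization.exists_mk'_eq p.primeCompl (σ a)
  let g₁ : R := ∏ t ∈ tH, (den t : R)
  have hg₁ : g₁ ∈ p.primeCompl := Submonoid.prod_mem _ fun t _ => (den t).2
  have hφg₁ : φ g₁ ≠ 0 := fun h => hg₁ (hp ▸ h)
  have hg₁0 : g₁ ≠ 0 := fun h => hφg₁ (by rw [h, map_zero])
  let A := Localization.AtPrime p
  -- `σ` factors through a basic open
  let ιA : Localization.Away g₁ →ₐ[k] A :=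
    IsLocalization.liftAlgHom (M := Submonoid.powers g₁) (f := IsScalarTower.toAlgHom k R A) (fun y => by
      obtain ⟨n, hn⟩ := y.2
      exact IsLocalization.map_units A (⟨y, hn ▸ pow_mem hg₁ n⟩ : p.primeCompl))
  have hιA : ∀ r, ιA (algebraMap R _ r) = algebraMap R A r := fun r => IsLocalization.lift_eq _ r
  have hιAi : Function.Injective ιA := by
    have : Function.Injective (IsLocalization.lift (M := Submonoid.powers g₁) (S := Localization.Away g₁)
        (g := algebraMap R A) (fun y => by
      obtain ⟨n, hn⟩ := y.2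
      exact IsLocalization.map_units A (⟨y, hn ▸ pow_mem hg₁ n⟩ : p.primeCompl))) := by
      rw [IsLocalization.lift_injective_iff]
      intro a b
      rw [(IsLocalization.injective _ (powers_le_nonZeroDivisors_of_noZeroDivisors hg₁0)).eq_iff,
        (IsLocalization.injective A p.primeCompl_le_nonZeroDivisors).eq_iff]
    exact this
  have hrange : ∀ a, σ a ∈ ιA.range := by
    have h : Algebra.adjoin k (tH : Set H) ≤ ιA.range.comap σ := by
      refine Algebra.adjoin_le fun t ht => ?_
      refine ⟨algebraMap R _ (num t * ∏ t' ∈ tH.erase t, (den t' : R)) * IsLocalization.Away.invSelf g₁, ?_⟩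
      show ιA _ = σ t
      rw [← hnd t, eq_comm, IsLocalization.mk'_eq_iff_eq_mul, ← hιA (den t : R), ← map_mul, mul_right_comm, ← map_mul, mul_assoc,
        Finset.prod_erase_mul _ _ ht, map_mul]
      rw [← map_mul ιA, map_mul (algebraMap R (Localization.Away g₁)), mul_assoc,
        IsLocalization.Away.mul_invSelf, mul_one, hιA]
    exact fun a => h (htH ▸ Algebra.mem_top)
  let σ' : H →ₐ[k] Localization.Away g₁ :=
    (AlgEquiv.ofInjective ιA hιAi).symm.toAlgHom.comp (σ.codRestrict ιA.range hrange)
  have hσ' : ∀ a, ιA (σ' a) = σ a := fun a =>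
    congrArg Subtype.val ((AlgEquiv.ofInjective ιA hιAi).apply_symm_apply ⟨σ a, hrange a⟩)
  -- the coordinates are regular on a basic open
  obtain ⟨h, hh⟩ := IsLocalization.exist_integer_multiples_of_finset (nonZeroDivisors H)
    (insert (φ g₁)⁻¹ (tR.image φ))
  have hh0 : (h : H) ≠ 0 := nonZeroDivisors.ne_zero h.2
  let ιH : Localization.Away (h : H) →ₐ[k] F :=
    IsLocalization.liftAlgHom (M := Submonoid.powers (h : H)) (f := IsScalarTower.toAlgHom k H F) (fun y => by
      obtain ⟨n, hn⟩ := y.2
      exact (IsFractionRing.to_map_ne_zero_of_mem_nonZeroDivisors (hn ▸ pow_mem h.2 n)).isUnit)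
  have hιH : ∀ a, ιH (algebraMap H _ a) = algebraMap H F a := fun a => IsLocalization.lift_eq _ a
  have hιHi : Function.Injective ιH := by
    have : Function.Injective (IsLocalization.lift (M := Submonoid.powers (h : H)) (S := Localization.Away (h : H))
        (g := algebraMap H F) (fun y => by
      obtain ⟨n, hn⟩ := y.2
      exact (IsFractionRing.to_map_ne_zero_of_mem_nonZeroDivisors (hn ▸ pow_mem h.2 n)).isUnit)) := by
      rw [IsLocalization.lift_injective_iff]
      intro a b
      rw [(IsLocalization.injective _ (powers_le_nonZeroDivisors_of_noZeroDivisors hh0)).eq_iff,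
        (IsFractionRing.injective H F).eq_iff]
    exact this
  have hmem : ∀ w ∈ insert (φ g₁)⁻¹ (tR.image φ), w ∈ ιH.range := fun w hw => by
    obtain ⟨a, ha⟩ := hh w hw
    refine ⟨algebraMap H _ a * IsLocalization.Away.invSelf (h : H), ?_⟩
    apply mul_left_cancel₀ (IsFractionRing.to_map_ne_zero_of_mem_nonZeroDivisors (K := F) h.2)
    show _ * ιH _ = _
    rw [← hιH, ← map_mul, ← mul_assoc, mul_comm (algebraMap H _ (h : H)), mul_assoc,
      IsLocalization.Away.mul_invSelf, mul_one, hιH, hιH, ha, Algebra.smul_def]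
  let φ₁ : Localization.Away g₁ →ₐ[k] F :=
    IsLocalization.liftAlgHom (M := Submonoid.powers g₁) (f := φ) (fun y => by
      obtain ⟨n, hn⟩ := y.2
      exact (hn ▸ (by rw [map_pow]; exact pow_ne_zero n hφg₁) : φ y ≠ 0).isUnit)
  have hφ₁ : ∀ r, φ₁ (algebraMap R _ r) = φ r := fun r => IsLocalization.lift_eq _ r
  have hφr : ∀ r, φ r ∈ ιH.range := fun r => by
    have h' : Algebra.adjoin k (tR : Set R) ≤ ιH.range.comap φ := Algebra.adjoin_le fun t ht =>
      hmem _ (Finset.mem_insert_of_mem (Finset.mem_image_of_mem φ ht))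
    exact h' (htR ▸ Algebra.mem_top)
  have hφ₁r : ∀ z, φ₁ z ∈ ιH.range := fun z => by
    obtain ⟨⟨r, s⟩, hrs⟩ := IsLocalization.surj (Submonoid.powers g₁) z
    obtain ⟨n, hn⟩ := s.2
    have h1 := congrArg φ₁ hrs
    rw [map_mul, hφ₁, hφ₁, ← hn, map_pow] at h1
    have h2 : φ₁ z = φ r * ((φ g₁)⁻¹) ^ n := by rw [← h1, inv_pow, mul_inv_cancel_right₀ (pow_ne_zero n hφg₁)]
    rw [h2]
    exact mul_mem (hφr r) (pow_mem (hmem _ (Finset.mem_insert_self _ _)) n)
  let α₁ : Localization.Away g₁ →ₐ[k] Localization.Away (h : H) :=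
    (AlgEquiv.ofInjective ιH hιHi).symm.toAlgHom.comp (φ₁.codRestrict ιH.range hφ₁r)
  have hα₁ : ∀ z, ιH (α₁ z) = φ₁ z := fun z =>
    congrArg Subtype.val ((AlgEquiv.ofInjective ιH hιHi).apply_symm_apply ⟨φ₁ z, hφ₁r z⟩)
  have hcomp : ∀ a, α₁ (σ' a) = algebraMap H _ a := fun a => hιHi <| by
    rw [hα₁, hιH]
    obtain ⟨⟨r, s⟩, hrs⟩ := IsLocalization.surj (Submonoid.powers g₁) (σ' a)
    obtain ⟨n, hn⟩ := s.2
    have h1 := congrArg φ₁ hrs
    rw [map_mul, hφ₁, hφ₁] at h1
    have hs : (s : R) ∈ p.primeCompl := hn ▸ pow_mem hg₁ n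
    have h2 : σ a = IsLocalization.mk' A r ⟨(s : R), hs⟩ := by
      rw [IsLocalization.eq_mk'_iff_mul_eq, ← hσ' a, ← hιA, ← map_mul, hrs, hιA]
    have h3 := hσ a r ⟨_, hs⟩ h2
    rw [← h1] at h3
    exact mul_right_cancel₀ (fun h0 => hs (hp ▸ h0)) h3
  exact exists_retract_of_pair hh0 σ' α₁ hcomp

end Spread

end Groth.Agent.RetractRat26
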