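import Groth.Agent.IsoTriv.SchemeSpec
import Groth.Agent.IsoTriv.Criterion
import Groth.Agent.SGA3cLib.TorusBasic
import Groth.Prelude.Def_TwC
import Mathlib.RingTheory.Nilpotent.GeometricallyReduced
import Mathlib.RingTheory.Finiteness.Descent
import Mathlib.AlgebraicGeometry.Morphisms.Finite
import Mathlib.RingTheory.TensorProduct.MonoidAlgebra
import Mathlib.Algebra.Group.UniqueProds.Basic

/-! The coordinate ring of an isotrivial torus over a field. -/

set_option linter.style.haveILetI false
set_option linter.unusedSectionVars false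
set_option autoImplicit false
set_option maxHeartbeats 800000
universe u

open CategoryTheory MonoidalCategory CartesianMonoidalCategory MonObj GrpObj AlgebraicGeometry
open scoped TensorProduct

noncomputable section

namespace Groth.Agent.RetractRat26

/-- An isotrivial torus over a field is the spectrum of a geometrically reduced domain of finite type. -/
theorem exists_coordinateRing (k : Type u) [Field k] (T : Over (Spec (CommRingCat.of k))) [GrpObj T]
    (hT : ∃ r : ℕ, TwC.Locally (Spec (CommRingCat.of k)) .finiteEtale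
        (fun S' g => Red.IsSplitTorusWith (Fin r → ℤ) (Red.bc g T))) :
    ∃ (H : Type u) (_ : CommRing H) (_ : IsDomain H) (_ : HopfAlgebra k H) (_ : Algebra.FiniteType k H)
      (_ : IsReduced (AlgebraicClosure k ⊗[k] H)) (j : Spec (CommRingCat.of H) ≅ T.left),
      j.hom ≫ T.hom = Spec.map (CommRingCat.ofHom (algebraMap k H)) ∧
      (∀ (K : Type u) [Field K] [Algebra k K], IsDomain (K ⊗[k] H)) ∧
      ∀ (X : Type u) [CommRing X] [Algebra k X] (p q : WithConv (H →ₐ[k] X)), p * q = q * p := by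
  classical
  obtain ⟨r, S', f, hff, hfe, hfs, hU⟩ := hT
  haveI := hff
  haveI := hfe
  haveI := hfs
  have hTor : Red.IsTorus T := by
    refine ⟨S', f, inferInstance, inferInstance, fun V hV => ⟨f ⁻¹ᵁ V, (hV.preimage f).isCompact, ?_⟩, fun s' => ?_⟩
    · exact Set.image_preimage_eq _ f.surjective
    · obtain ⟨U, hU1, -, hU3⟩ := hU s'
      exact ⟨U, hU1, r, hU3⟩
  haveI := Groth.Agent.SGA3cLib.torus_isAffineHom hTor
  haveI : IsAffine T.left := isAffine_of_isAffineHom T.hom
  obtain ⟨H, _, _, ⟨e₀⟩⟩ := Groth.Agent.IsoTriv.SchemeSpec.exists_spec T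
  obtain ⟨s', -⟩ := f.surjective (Classical.arbitrary _)
  obtain ⟨U, hs', hUc, ⟨eU⟩⟩ := hU s'
  haveI : IsClosedImmersion U.ι := IsClosedImmersion.of_isPreimmersion U.ι (by
    rw [Scheme.Opens.range_ι]; exact hUc)
  haveI : IsFinite (U.ι ≫ f) := inferInstance
  haveI : IsAffine (U : Scheme.{u}) := isAffine_of_isAffineHom (U.ι ≫ f)
  let φ := Spec.preimage ((U : Scheme.{u}).isoSpec.inv ≫ U.ι ≫ f)
  have hφ : Spec.map φ = (U : Scheme.{u}).isoSpec.inv ≫ U.ι ≫ f := Spec.map_preimage _
  haveI : IsFinite (Spec.map φ) := by rw [hφ]; infer_instance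
  letI : Algebra k Γ(U, ⊤) := φ.hom.toAlgebra
  haveI : Module.Finite k Γ(U, ⊤) := (IsFinite.SpecMap_iff φ).1 inferInstance
  haveI : Nontrivial Γ(U, ⊤) := PrimeSpectrum.nontrivial ((U : Scheme.{u}).isoSpec.hom ⟨s', hs'⟩)
  obtain ⟨m, hm⟩ := Ideal.exists_maximal Γ(U, ⊤)
  let L := Γ(U, ⊤) ⧸ m
  letI : Field L := Ideal.Quotient.field m
  haveI : Module.Finite k L := Module.Finite.of_surjective (Ideal.Quotient.mkₐ k m).toLinearMap Ideal.Quotient.mk_surjective
  obtain ⟨i⟩ := Groth.Agent.IsoTriv.SchemeSpec.nonempty_bc_congr (U.ι ≫ f) e₀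
  obtain ⟨e₁⟩ := Groth.Agent.IsoTriv.SchemeSpec.nonempty_triv_of_restrict H (U.ι ≫ f) (i.symm ≪≫ eU) L
    (Spec.map (CommRingCat.ofHom (Ideal.Quotient.mk m)) ≫ (U : Scheme.{u}).isoSpec.inv) (by
      rw [Category.assoc, ← hφ, ← Spec.map_comp]
      rfl)
  let N := ULift.{u} (Multiplicative (Fin r → ℤ))
  let e := e₁.trans (MonoidAlgebra.domCongrBialgEquiv L L
    (MulEquiv.ulift.symm : Multiplicative (Fin r → ℤ) ≃* N))
  haveI : UniqueProds N :=
    UniqueProds.of_injective_mulHom (MulEquiv.ulift : N ≃* Multiplicative (Fin r → ℤ)).toMulHom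
      MulEquiv.ulift.injective inferInstance
  haveI : IsDomain (MonoidAlgebra L N) := NoZeroDivisors.to_isDomain _
  haveI : IsDomain (L ⊗[k] H) := e.toAlgEquiv.toRingEquiv.toMulEquiv.isDomain _
  haveI : IsDomain H :=
    (Algebra.TensorProduct.includeRight_injective (A := L) (B := H) (RingHom.injective (algebraMap k L))).isDomain
      (Algebra.TensorProduct.includeRight : H →ₐ[k] L ⊗[k] H).toRingHom
  haveI : Group.FG N := by
    have h : Monoid.FG (Multiplicative (Fin r → ℤ)) := AddMonoid.fg_iff_mul_fg.mp inferInstance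
    exact Group.fg_iff_monoid_fg.2 (Monoid.fg_of_surjective (MulEquiv.ulift.symm : Multiplicative (Fin r → ℤ) ≃* N).toMonoidHom
      (MulEquiv.surjective _))
  haveI : Algebra.FiniteType L (L ⊗[k] H) := (inferInstance : Algebra.FiniteType L (MonoidAlgebra L N)).equiv e.toAlgEquiv.symm
  haveI : Algebra.FiniteType k H := .of_finiteType_tensorProduct_of_faithfullyFlat L
  -- geometric reducedness
  let Kb := AlgebraicClosure k
  haveI : Algebra.IsAlgebraic k L := Algebra.IsAlgebraic.of_finite k L
  letI : Algebra L Kb := (IsAlgClosed.lift : L →ₐ[k] Kb).toRingHom.toAlgebra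
  haveI : IsScalarTower k L Kb := .of_algebraMap_eq fun a => ((IsAlgClosed.lift : L →ₐ[k] Kb).commutes a).symm
  haveI : IsDomain (MonoidAlgebra Kb N) := NoZeroDivisors.to_isDomain _
  let g : Kb ⊗[k] H ≃+* MonoidAlgebra Kb N :=
    ((Algebra.TensorProduct.cancelBaseChange k L Kb Kb H).symm.trans
      ((Algebra.TensorProduct.congr AlgEquiv.refl e.toAlgEquiv).trans
        (Groth.Agent.IsoTriv.monoidBC Kb (T := L) N).toAlgEquiv)).toRingEquiv
  haveI : IsReduced (Kb ⊗[k] H) := isReduced_of_injective g.toRingHom g.injective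
  refine ⟨H, inferInstance, inferInstance, inferInstance, inferInstance, inferInstance,
    (Over.forget _).mapIso ((Grp.forget _).mapIso e₀).symm, ?_⟩
  refine ⟨Over.w e₀.inv.hom.hom, fun K _ _ => ?_, fun X _ _ p q => ?_⟩
  · let K' := AlgebraicClosure K
    letI : Algebra L K' := (IsAlgClosed.lift : L →ₐ[k] K').toRingHom.toAlgebra
    haveI : IsScalarTower k L K' := .of_algebraMap_eq fun a => ((IsAlgClosed.lift : L →ₐ[k] K').commutes a).symm
    haveI : IsDomain (MonoidAlgebra K' N) := NoZeroDivisors.to_isDomain _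
    let g' : K' ⊗[k] H ≃+* MonoidAlgebra K' N :=
      ((Algebra.TensorProduct.cancelBaseChange k L K' K' H).symm.trans
        ((Algebra.TensorProduct.congr AlgEquiv.refl e.toAlgEquiv).trans
          (Groth.Agent.IsoTriv.monoidBC K' (T := L) N).toAlgEquiv)).toRingEquiv
    haveI : IsDomain (K' ⊗[k] H) := g'.toMulEquiv.isDomain _
    exact (show Function.Injective (Algebra.TensorProduct.map (IsScalarTower.toAlgHom k K K') (AlgHom.id k H)) from
      Module.Flat.rTensor_preserves_injective_linearMap (IsScalarTower.toAlgHom k K K').toLinearMap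
        (algebraMap K K').injective).isDomain _
  · have hpt : ∀ a b : WithConv (H →ₐ[k] X), CoactBr.pt (a * b).ofConv = CoactBr.pt a.ofConv * CoactBr.pt b.ofConv :=
      fun a b => by
        rw [CoactBr.pt_mul_pt, AlgHom.convMul_def, WithConv.ofConv_toConv, ← AlgHom.comp_assoc]
        congr 2
        exact Algebra.TensorProduct.ext' fun x y => by simp
    refine WithConv.ext (CoactBr.pt_injective ?_)
    rw [hpt, hpt]
    haveI : IsMonHom e₀.inv.hom.hom := e₀.inv.hom.isMonHom_hom
    haveI : IsIso e₀.inv.hom.hom := ((Grp.forget _).mapIso e₀).isIso_inv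
    refine (cancel_mono e₀.inv.hom.hom).1 ?_
    rw [MonObj.mul_comp, MonObj.mul_comp, Groth.Agent.SGA3cLib.torus_mul_comm hTor]

end Groth.Agent.RetractRat26
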