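import Mathlib.RingTheory.MvPolynomial.MonomialOrder
import Mathlib.Data.Finsupp.MonomialOrder
import Mathlib.RingTheory.Polynomial.UniqueFactorization
import Mathlib.RingTheory.Localization.Away.Basic
import Mathlib.Algebra.MvPolynomial.Nilpotent
import Mathlib.Algebra.BigOperators.Ring.Finset

/-! # Units of a basic open of affine space -/

set_option linter.style.haveILetI false
set_option linter.unusedSectionVars false
set_option autoImplicit false
universe u v

open MvPolynomial

noncomputable section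

namespace Groth.Agent.RetractRat26

variable {L : Type u} [Field L] {n : ℕ}

/-- The leading coefficient for the lexicographic order. -/
def lc (p : MvPolynomial (Fin n) L) : L := (MonomialOrder.lex (σ := Fin n)).leadingCoeff p

theorem lc_mul {p q : MvPolynomial (Fin n) L} : lc (p * q) = lc p * lc q := by
  simp [lc]

theorem lc_C (c : L) : lc (C c : MvPolynomial (Fin n) L) = c := MonomialOrder.leadingCoeff_C c

theorem lc_map (τ : L →+* L) (p : MvPolynomial (Fin n) L) : lc (map τ p) = τ (lc p) := by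
  unfold lc MonomialOrder.leadingCoeff
  rw [show (MonomialOrder.lex (σ := Fin n)).degree (map τ p) = (MonomialOrder.lex (σ := Fin n)).degree p by
    unfold MonomialOrder.degree
    rw [support_map_of_injective p τ.injective]]
  exact coeff_map τ p _

/-- Monic prime factors. -/
abbrev MonicFactor (G : MvPolynomial (Fin n) L) : Type u := {p : MvPolynomial (Fin n) L // Prime p ∧ p ∣ G ∧ lc p = 1}

theorem eq_of_associated {p q : MvPolynomial (Fin n) L} (hp : lc p = 1) (hq : lc q = 1) (h : Associated p q) :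
    p = q := by
  obtain ⟨w, rfl⟩ := h
  obtain ⟨c, -, hc⟩ := isUnit_iff_eq_C_of_isReduced.1 w.isUnit
  rw [hc, lc_mul, hp, lc_C, one_mul] at hq
  rw [hc, hq, map_one, mul_one]

theorem finite_monicFactor {G : MvPolynomial (Fin n) L} (hG : G ≠ 0) : Finite (MonicFactor G) := by
  classical
  choose f hf hfa using fun b : MonicFactor G =>
    UniqueFactorizationMonoid.exists_mem_factors_of_dvd hG b.2.1.irreducible b.2.2.1
  refine Finite.of_injective (fun b => (⟨f b, Multiset.mem_toFinset.2 (hf b)⟩ :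
    (UniqueFactorizationMonoid.factors G).toFinset)) fun b b' h => ?_
  have h' : f b = f b' := congrArg Subtype.val h
  exact Subtype.ext (eq_of_associated b.2.2.2 b'.2.2.2 ((hfa b).trans (h' ▸ (hfa b').symm)))

theorem exists_monic {G p : MvPolynomial (Fin n) L} (hp : Prime p) (hpG : p ∣ G) :
    ∃ (b : MonicFactor G) (c : Lˣ), p = C (c : L) * b.1 := by
  have hne : lc p ≠ 0 := MonomialOrder.leadingCoeff_ne_zero_iff.2 hp.ne_zero
  have hass : Associated p (C (lc p)⁻¹ * p) :=
    associated_unit_mul_right p _ ((Ne.isUnit (inv_ne_zero hne)).map C)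
  refine ⟨⟨C (lc p)⁻¹ * p, hass.prime hp, hass.symm.dvd.trans hpG, ?_⟩, Units.mk0 _ hne, ?_⟩
  · rw [lc_mul, lc_C, inv_mul_cancel₀ hne]
  · rw [Units.val_mk0, ← mul_assoc, ← C_mul, mul_inv_cancel₀ hne, C_1, one_mul]

theorem exists_factor {G : MvPolynomial (Fin n) L} (hG : G ≠ 0) [Fintype (MonicFactor G)] {N : ℕ}
    (P : MvPolynomial (Fin n) L) :
    P ∣ G ^ N → ∃ (c : Lˣ) (e : MonicFactor G → ℕ), P = C (c : L) * ∏ b, b.1 ^ e b := by
  classical
  induction P using UniqueFactorizationMonoid.induction_on_prime with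
  | h₁ => exact fun h => absurd (eq_zero_of_zero_dvd h) (pow_ne_zero _ hG)
  | h₂ x hx =>
    intro _
    obtain ⟨c, hc, rfl⟩ := isUnit_iff_eq_C_of_isReduced.1 hx
    exact ⟨hc.unit, 0, by simp⟩
  | h₃ a p _ hp ih =>
    intro h
    obtain ⟨c, e, he⟩ := ih ((dvd_mul_left a p).trans h)
    obtain ⟨b, c', hb⟩ := exists_monic hp (hp.dvd_of_dvd_pow ((dvd_mul_right p a).trans h))
    refine ⟨c' * c, e + Pi.single b 1, ?_⟩
    have h1 : ∏ x, x.1 ^ (e + Pi.single b 1 : MonicFactor G → ℕ) x = (∏ x, x.1 ^ e x) * b.1 := by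
      simp only [Pi.add_apply, pow_add, Finset.prod_mul_distrib]
      congr 1
      rw [Fintype.prod_eq_single b fun x hx => by simp [Pi.single_eq_of_ne hx]]
      simp
    rw [h1, hb, he, Units.val_mul, C_mul]
    ring

theorem eq_zero_of_prod_eq {G : MvPolynomial (Fin n) L} [Fintype (MonicFactor G)] {c : Lˣ}
    {e e' : MonicFactor G → ℕ} (h : ∏ b, b.1 ^ e b = C (c : L) * ∏ b, b.1 ^ e' b) (b : MonicFactor G)
    (hb : e b ≠ 0) : e' b ≠ 0 := by
  intro hb'
  have h1 : b.1 ∣ C (c : L) * ∏ x, x.1 ^ e' x :=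
    h ▸ (dvd_pow_self b.1 hb).trans (Finset.dvd_prod_of_mem (fun x => x.1 ^ e x) (Finset.mem_univ b))
  rcases b.2.1.dvd_or_dvd h1 with h1 | h1
  · exact b.2.1.not_isUnit (isUnit_of_dvd_unit h1 (c.isUnit.map C))
  · obtain ⟨x, -, hx⟩ := b.2.1.exists_mem_finset_dvd h1
    have hbx : b.1 ∣ x.1 := b.2.1.dvd_of_dvd_pow hx
    obtain rfl : b = x := Subtype.ext (eq_of_associated b.2.2.2 x.2.2.2 (b.2.1.associated_of_dvd x.2.1 hbx))
    rw [hb', pow_zero] at hx
    exact b.2.1.not_isUnit (isUnit_of_dvd_one hx)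

variable (G : MvPolynomial (Fin n) L) [Fintype (MonicFactor G)] (W : Type v) [CommRing W]
  [Algebra (MvPolynomial (Fin n) L) W] [IsLocalization.Away G W]

/-- A factor as a unit. -/
def bU (b : MonicFactor G) : Wˣ :=
  (isUnit_of_dvd_unit (map_dvd (algebraMap (MvPolynomial (Fin n) L) W) b.2.2.1) (IsLocalization.Away.algebraMap_isUnit G)).unit

theorem coe_bU (b : MonicFactor G) : (bU G W b : W) = algebraMap _ W b.1 := rfl

/-- A scalar as a unit. -/
def cU : Lˣ →* Wˣ := Units.map ((algebraMap (MvPolynomial (Fin n) L) W).comp C).toMonoidHom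

omit [Fintype (MonicFactor G)] [IsLocalization.Away G W] in
theorem coe_cU (c : Lˣ) : (cU (n := n) W c : W) = algebraMap (MvPolynomial (Fin n) L) W (C (c : L)) := rfl

/-- The units of the factors. -/
def facProd (v : MonicFactor G → ℤ) : Wˣ := ∏ b, bU G W b ^ v b

theorem facProd_add (v w : MonicFactor G → ℤ) : facProd G W (v + w) = facProd G W v * facProd G W w := by
  simp [facProd, zpow_add, Finset.prod_mul_distrib]

theorem facProd_neg (v : MonicFactor G → ℤ) : facProd G W (-v) = (facProd G W v)⁻¹ := by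
  simp [facProd, zpow_neg, Finset.prod_inv_distrib]

theorem coe_facProd_nat (e : MonicFactor G → ℕ) :
    (facProd G W (fun b => (e b : ℤ)) : W) = algebraMap _ W (∏ b, b.1 ^ e b) := by
  simp [facProd, map_prod, Units.coe_prod, coe_bU]

theorem exists_unit_eq (hG : G ≠ 0) (w : Wˣ) :
    ∃ (c : Lˣ) (v : MonicFactor G → ℤ), w = cU (n := n) W c * facProd G W v := by
  have hinj : Function.Injective (algebraMap (MvPolynomial (Fin n) L) W) :=
    IsLocalization.injective W (powers_le_nonZeroDivisors_of_noZeroDivisors hG)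
  obtain ⟨i, P, hP⟩ := IsLocalization.Away.surj G (w : W)
  obtain ⟨j, P', hP'⟩ := IsLocalization.Away.surj G ((w⁻¹ : Wˣ) : W)
  have hPP : P * P' = G ^ (i + j) := hinj (by
    rw [map_mul, map_pow, ← hP, ← hP', mul_mul_mul_comm, Units.mul_inv, one_mul, ← pow_add])
  obtain ⟨c, e, he⟩ := exists_factor hG P (N := i + j) ⟨P', hPP.symm⟩
  obtain ⟨c₀, e₀, he₀⟩ := exists_factor hG (G ^ i) (N := i) dvd_rfl
  refine ⟨c * c₀⁻¹, (fun b => (e b : ℤ)) + -(fun b => (e₀ b : ℤ)), ?_⟩
  have key : w * (cU (n := n) W c₀ * facProd G W (fun b => (e₀ b : ℤ))) = cU (n := n) W c * facProd G W (fun b => (e b : ℤ)) :=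
    Units.ext (by
      simp only [Units.val_mul, coe_cU, coe_facProd_nat, ← map_mul, ← he, ← he₀]
      rw [map_pow]; exact hP)
  rw [facProd_add, facProd_neg, map_mul, map_inv, mul_mul_mul_comm, ← mul_inv, ← key, mul_inv_cancel_right]

theorem unit_eq_unique (hG : G ≠ 0) {c c' : Lˣ} {v v' : MonicFactor G → ℤ}
    (h : cU (n := n) W c * facProd G W v = cU (n := n) W c' * facProd G W v') : v = v' := by
  have hinj : Function.Injective (algebraMap (MvPolynomial (Fin n) L) W) :=
    IsLocalization.injective W (powers_le_nonZeroDivisors_of_noZeroDivisors hG)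
  have h0 : facProd G W (v + -v') = cU (n := n) W (c' * c⁻¹) := by
    rw [facProd_add, facProd_neg, map_mul, map_inv, mul_inv_eq_iff_eq_mul, mul_right_comm, eq_mul_inv_iff_mul_eq,
      mul_comm _ (cU (n := n) W c), h]
  set d := v + -v' with hd
  let e : MonicFactor G → ℕ := fun b => (d b).toNat
  let e' : MonicFactor G → ℕ := fun b => (-d b).toNat
  have hde : d = (fun b => (e b : ℤ)) + -(fun b => (e' b : ℤ)) := funext fun b => by
    simp only [e, e', Pi.add_apply, Pi.neg_apply]; omega
  rw [hde, facProd_add, facProd_neg, mul_inv_eq_iff_eq_mul] at h0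
  have h1 := congrArg (fun x : Wˣ => (x : W)) h0
  simp only [Units.val_mul, coe_cU, coe_facProd_nat, ← map_mul] at h1
  have h2 := hinj h1
  funext b
  by_contra hne
  have hdb : d b ≠ 0 := by simp only [hd, Pi.add_apply, Pi.neg_apply]; omega
  rcases lt_or_gt_of_ne hdb with hlt | hgt
  · have h3 : ∏ x, x.1 ^ e' x = C ((c' * c⁻¹)⁻¹ : Lˣ).val * ∏ x, x.1 ^ e x := by
      rw [h2, ← mul_assoc, ← C_mul, ← Units.val_mul c', ← Units.val_mul, inv_mul_cancel, Units.val_one, C_1, one_mul]
    exact eq_zero_of_prod_eq h3 b (by simp only [e']; omega) (by simp only [e]; omega)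
  · rw [← Units.val_mul c'] at h2
    exact eq_zero_of_prod_eq h2 b (by simp only [e]; omega) (by simp only [e']; omega)

section Galois

variable {G}

/-- Automorphisms permute the monic factors. -/
def mapFactor (τ : L ≃+* L) (hτ : map (τ : L →+* L) G = G) (b : MonicFactor G) : MonicFactor G :=
  ⟨map (τ : L →+* L) b.1, (MulEquiv.prime_iff (MvPolynomial.mapEquiv (Fin n) τ).toMulEquiv).2 b.2.1,
    (map_dvd (map (τ : L →+* L)) b.2.2.1).trans (dvd_of_eq hτ), by rw [lc_map, b.2.2.2, map_one]⟩

end Galois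

end Groth.Agent.RetractRat26
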