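import Groth.Agent.RetractRat26.LatticeTorus
import Groth.Agent.RetractRat26.UnitFactor

/-! # The exponents of characters along a retraction -/

set_option linter.style.haveILetI false
set_option linter.unusedSectionVars false
set_option autoImplicit false
set_option backward.isDefEq.respectTransparency.types false
universe u

open Groth.Agent.IsoTriv MvPolynomial
open scoped TensorProduct

noncomputable section

namespace Groth.Agent.RetractRat26

/-- The map induced on localisations of polynomial rings by extension of scalars. -/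
theorem exists_awayMap {k L : Type u} [Field k] [Field L] [Algebra k L] {n : ℕ} (g : MvPolynomial (Fin n) k) :
    ∃ j : Localization.Away g →ₐ[k] Localization.Away (map (algebraMap k L) g),
      ∀ p : MvPolynomial (Fin n) k, j (algebraMap _ _ p) = algebraMap _ _ (map (algebraMap k L) p) := by
  let f : MvPolynomial (Fin n) k →ₐ[k] Localization.Away (map (algebraMap k L) g) :=
    { (algebraMap (MvPolynomial (Fin n) L) (Localization.Away (map (algebraMap k L) g))).comp (map (algebraMap k L)) with
      commutes' := fun c => by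
        show algebraMap (MvPolynomial (Fin n) L) _ (map (algebraMap k L) (C c)) = _
        rw [map_C, ← MvPolynomial.algebraMap_eq, ← IsScalarTower.algebraMap_apply L,
          ← IsScalarTower.algebraMap_apply k L] }
  refine ⟨IsLocalization.liftAlgHom (M := Submonoid.powers g) (f := f) (fun y => ?_), fun p => IsLocalization.lift_eq _ p⟩
  obtain ⟨i, hi⟩ := y.2
  show IsUnit (algebraMap (MvPolynomial (Fin n) L) _ (map (algebraMap k L) (y : MvPolynomial (Fin n) k)))
  rw [← hi, map_pow, map_pow]
  exact (IsLocalization.Away.algebraMap_isUnit _).pow i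

/-- The image of a product of powers of factors in a field. -/
theorem map_facProd {L F : Type u} [Field L] [Field F] {n : ℕ} (G : MvPolynomial (Fin n) L) [Fintype (MonicFactor G)]
    (W : Type u) [CommRing W] [Algebra (MvPolynomial (Fin n) L) W] [IsLocalization.Away G W] (φ : W →+* F)
    (v : MonicFactor G → ℤ) : φ (facProd G W v : W) = ∏ b, φ (bU G W b : W) ^ v b := by
  rw [facProd, Units.coe_prod, map_prod]
  refine Finset.prod_congr rfl fun b _ => ?_
  show ((Units.map φ.toMonoidHom (bU G W b ^ v b) : Fˣ) : F) = _
  rw [map_zpow, Units.val_zpow_eq_zpow_val]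
  rfl

/-- Exponents are moved by automorphisms. -/
theorem val_map {L : Type u} [Field L] {n : ℕ} (G : MvPolynomial (Fin n) L) [Fintype (MonicFactor G)] (W : Type u)
    [CommRing W] [Algebra (MvPolynomial (Fin n) L) W] [IsLocalization.Away G W] (hG : G ≠ 0) (τ : L ≃+* L)
    (hτ : map (τ : L →+* L) G = G) (τW : W →+* W)
    (hτW : ∀ p : MvPolynomial (Fin n) L, τW (algebraMap _ W p) = algebraMap _ W (map (τ : L →+* L) p)) {u u' : Wˣ} (huu : τW u = u')
    {c c' : Lˣ} {v v' : MonicFactor G → ℤ} (hu : u = cU (n := n) W c * facProd G W v)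
    (hu' : u' = cU (n := n) W c' * facProd G W v') (b : MonicFactor G) : v' (mapFactor τ hτ b) = v b := by
  classical
  have hb : Function.Bijective (mapFactor (G := G) τ hτ) :=
    Finite.injective_iff_bijective.1 fun x y h => Subtype.ext (map_injective _ τ.injective (congrArg Subtype.val h))
  let e := Equiv.ofBijective _ hb
  have hτb : ∀ x, Units.map τW.toMonoidHom (bU G W x) = bU G W (e x) := fun x => Units.ext (hτW x.1)
  have h1 : v' = fun x => v (e.symm x) := by
    refine unit_eq_unique G W hG (c := c') (c' := Units.map (τ : L →* L) c) ?_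
    rw [← hu', ← (Units.ext huu : Units.map τW.toMonoidHom u = u'), hu, map_mul]
    congr 1
    · refine Units.ext ?_
      show τW (algebraMap _ W (C (c : L))) = algebraMap _ W (C (τ (c : L)))
      rw [hτW, map_C]
      rfl
    · simp only [facProd, map_prod, map_zpow, hτb]
      exact Fintype.prod_equiv e _ _ fun x => by rw [Equiv.symm_apply_apply]
  rw [h1]
  exact congrArg v (e.symm_apply_apply b)

variable {k L : Type u} [Field k] [Field L] [Algebra k L] [FiniteDimensional k L] [IsGalois k L]

omit [FiniteDimensional k L] [IsGalois k L] in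
theorem map_gal {n : ℕ} (σ : L ≃ₐ[k] L) (p : MvPolynomial (Fin n) k) :
    map ((σ.toRingEquiv : L ≃+* L) : L →+* L) (map (algebraMap k L) p) = map (algebraMap k L) p := by
  rw [map_map]
  exact congrArg (fun f : k →+* L => map f p) (RingHom.ext σ.commutes)

set_option maxHeartbeats 800000 in
/-- The exponents of the characters along a retraction. -/
theorem exists_val {N : Type} [CommGroup N] (aN : (L ≃ₐ[k] L) →* Monoid.End N)
    {A : Type u} [CommRing A] [IsDomain A] [Algebra k A] (π : A →ₐ[k] MonoidAlgebra L N)
    (hπ : Function.Bijective (extHom (R := L) π)) (hfix : ∀ σ d, actR σ (aN σ) (π d) = π d)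
    {n : ℕ} {h : A} (hh : h ≠ 0) {g : MvPolynomial (Fin n) k} (α : Localization.Away g →ₐ[k] Localization.Away h)
    (β : Localization.Away h →ₐ[k] Localization.Away g) (hαβ : α.comp β = AlgHom.id k _)
    {F : Type u} [Field F] [Algebra k F] [Algebra L F] [IsScalarTower k L F]
    (ι : MonoidAlgebra L N →ₐ[L] F) (hι : Function.Injective ι) (ψ : (L ≃ₐ[k] L) →* (F ≃ₐ[k] F))
    (hψL : ∀ σ l, ψ σ (algebraMap L F l) = algebraMap L F (σ l))
    (hψ : ∀ σ x, ψ σ (ι x) = ι (actR σ (aN σ) x)) :
    ∃ (B : Type u) (_ : Fintype B) (p : (L ≃ₐ[k] L) →* Equiv.Perm B) (v : N → B → ℤ) (s : B → F),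
      (∀ m m', v (m * m') = v m + v m') ∧ (∀ σ m b, v (aN σ m) (p σ b) = v m b) ∧
      (∀ σ b, ψ σ (s b) = s (p σ b)) ∧ (∀ b, s b ≠ 0) ∧
      ∀ m, ∃ c : L, ι (MonoidAlgebra.single m 1) = algebraMap L F c * ∏ b, s b ^ v m b := by
  classical
  have hg : g ≠ 0 := by
    rintro rfl
    haveI : Subsingleton (Localization.Away (0 : MvPolynomial (Fin n) k)) :=
      IsLocalization.subsingleton (M := Submonoid.powers (0 : MvPolynomial (Fin n) k)) ⟨1, by simp⟩
    haveI : Nontrivial (Localization.Away h) :=
      (IsLocalization.injective (Localization.Away h) (powers_le_nonZeroDivisors_of_noZeroDivisors hh)).nontrivial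
    refine zero_ne_one (α := Localization.Away h) ?_
    rw [← map_zero α, ← map_one α]
    exact congrArg α (Subsingleton.elim _ _)
  let G := map (algebraMap k L) g
  have hG : G ≠ 0 := fun h0 => hg (map_injective _ (algebraMap k L).injective (h0.trans (map_zero _).symm))
  haveI := finite_monicFactor hG
  letI : Fintype (MonicFactor G) := Fintype.ofFinite _
  let W := Localization.Away G
  obtain ⟨j, hj⟩ := exists_awayMap (L := L) g
  -- the retraction over the splitting field
  let ιπ : A →ₐ[k] F := (ι.restrictScalars k).comp π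
  have hιπ : Function.Injective ιπ := hι.comp (injective_of_extHom (R := k) hπ)
  let f : Localization.Away h →ₐ[k] F :=
    IsLocalization.liftAlgHom (M := Submonoid.powers h) (f := ιπ) (fun y => by
      obtain ⟨i, hi⟩ := y.2
      refine IsUnit.mk0 _ ((map_ne_zero_iff _ hιπ).2 ?_)
      rw [← hi]
      exact pow_ne_zero _ hh)
  have hf : ∀ a, f (algebraMap A _ a) = ιπ a := fun a => IsLocalization.lift_eq _ a
  let θ : MvPolynomial (Fin n) L →ₐ[L] F := aeval fun i => f (α (algebraMap (MvPolynomial (Fin n) k) _ (X i)))
  have hθ : ∀ p : MvPolynomial (Fin n) k, θ (map (algebraMap k L) p) = f (α (algebraMap _ _ p)) := fun p =>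
    DFunLike.congr_fun
      (MvPolynomial.ringHom_ext (f := θ.toRingHom.comp (map (algebraMap k L)))
        (g := ((f.comp α).comp (IsScalarTower.toAlgHom k (MvPolynomial (Fin n) k) (Localization.Away g))).toRingHom)
        (fun c => by
          show θ (map (algebraMap k L) (C c)) = f (α (algebraMap _ _ (C c)))
          rw [map_C, show θ (C (algebraMap k L c)) = algebraMap L F (algebraMap k L c) from θ.commutes _,
            ← IsScalarTower.algebraMap_apply k L F, ← MvPolynomial.algebraMap_eq, ← IsScalarTower.algebraMap_apply k,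
            α.commutes, f.commutes])
        (fun i => by simp [θ])) p
  have hθG : IsUnit (θ G) := by
    rw [hθ]
    exact ((IsLocalization.Away.algebraMap_isUnit g).map α).map f
  obtain ⟨αL, hαL⟩ : ∃ φ : W →ₐ[L] F, ∀ p, φ (algebraMap _ W p) = θ p :=
    ⟨IsLocalization.liftAlgHom (M := Submonoid.powers G) (f := θ) (fun y => by
      obtain ⟨i, hi⟩ := y.2
      show IsUnit (θ y)
      rw [← hi, map_pow]
      exact hθG.pow i), fun p => IsLocalization.lift_eq _ p⟩
  have hαj : (αL.restrictScalars k).comp j = f.comp α := IsLocalization.algHom_ext (Submonoid.powers g)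
    (AlgHom.ext fun p => by
      show αL (j (algebraMap _ _ p)) = f (α (algebraMap _ _ p))
      rw [hj, hαL, hθ])
  let βA : A →ₐ[k] W := j.comp (β.comp (IsScalarTower.toAlgHom k A (Localization.Away h)))
  have hαβA : ∀ a, αL (βA a) = ι (π a) := fun a => by
    refine (DFunLike.congr_fun hαj _).trans ?_
    show f (α (β (algebraMap A _ a))) = _
    rw [show α (β (algebraMap A (Localization.Away h) a)) = algebraMap A _ a from DFunLike.congr_fun hαβ _]
    exact hf a
  let βL : L ⊗[k] A →ₐ[L] W := Algebra.TensorProduct.lift (Algebra.ofId L W) βA fun _ _ => Commute.all _ _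
  let E : L ⊗[k] A ≃ₐ[L] MonoidAlgebra L N := AlgEquiv.ofBijective (extHom (R := L) π) hπ
  have hαβL : ∀ z, αL (βL z) = ι (E z) := fun z => by
    induction z using TensorProduct.induction_on with
    | zero => simp
    | add a b ha hb => simp only [map_add, ha, hb]
    | tmul l a =>
      simp only [βL, E, Algebra.TensorProduct.lift_tmul, Algebra.ofId_apply, AlgEquiv.ofBijective_apply, extHom_tmul,
        map_mul, AlgHom.commutes, hαβA, map_smul, Algebra.smul_def]
  -- units
  let U : N →* Wˣ := MonoidHom.toHomUnits
    ((βL.comp E.symm.toAlgHom).toRingHom.toMonoidHom.comp (MonoidAlgebra.of L N))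
  have hU : ∀ m, (U m : W) = βL (E.symm (MonoidAlgebra.single m 1)) := fun m => rfl
  choose c v hv using fun m => exists_unit_eq G W hG (U m)
  have hvmul : ∀ m m', v (m * m') = v m + v m' := fun m m' => by
    refine unit_eq_unique G W hG (c := c (m * m')) (c' := c m * c m') ?_
    rw [← hv, map_mul, hv m, hv m', facProd_add, map_mul, mul_mul_mul_comm]
  -- Galois
  let mτ : (L ≃ₐ[k] L) → MvPolynomial (Fin n) L →+* MvPolynomial (Fin n) L :=
    fun σ => map ((σ.toRingEquiv : L ≃+* L) : L →+* L)
  have hmG : ∀ σ, mτ σ G = G := fun σ => map_gal σ g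
  let τW : (L ≃ₐ[k] L) → W →+* W := fun σ =>
    IsLocalization.map (M := Submonoid.powers G) (T := Submonoid.powers G) W (mτ σ) (fun x hx => by
      obtain ⟨i, rfl⟩ := hx
      exact ⟨i, by show G ^ i = mτ σ (G ^ i); rw [map_pow, hmG]⟩)
  have hτW : ∀ σ p, τW σ (algebraMap _ W p) = algebraMap _ W (mτ σ p) := fun σ p => IsLocalization.map_eq _ p
  have hτj : ∀ σ z, τW σ (j z) = j z := fun σ z => by
    have h1 : (τW σ).comp j.toRingHom = j.toRingHom := IsLocalization.ringHom_ext (Submonoid.powers g) (RingHom.ext fun p => by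
      show τW σ (j (algebraMap _ _ p)) = j (algebraMap _ _ p)
      rw [hj, hτW]
      exact congrArg _ (map_gal σ p))
    exact DFunLike.congr_fun h1 z
  have hτβ : ∀ σ z, τW σ (βL z) = βL (LinearMap.rTensor A σ.toLinearMap z) := fun σ z => by
    induction z using TensorProduct.induction_on with
    | zero => simp
    | add a b ha hb => simp only [map_add, ha, hb]
    | tmul l a =>
      simp only [βL, LinearMap.rTensor_tmul, Algebra.TensorProduct.lift_tmul, Algebra.ofId_apply, map_mul]
      rw [show τW σ (βA a) = βA a from hτj σ _, IsScalarTower.algebraMap_apply L (MvPolynomial (Fin n) L) W,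
        IsScalarTower.algebraMap_apply L (MvPolynomial (Fin n) L) W, hτW]
      simp [mτ]
  have hτU : ∀ σ m, τW σ (U m : W) = U (aN σ m) := fun σ m => by
    rw [hU, hU, hτβ]
    refine congrArg βL (E.injective ?_)
    rw [E.apply_symm_apply]
    show extHom (R := L) π (LinearMap.rTensor A σ.toLinearMap (E.symm _)) = _
    rw [extHom_rTensor aN π hfix,
      show extHom (R := L) π (E.symm (MonoidAlgebra.single m 1)) = MonoidAlgebra.single m 1 from E.apply_symm_apply _,
      actR_single, map_one]
    rfl
  let p : (L ≃ₐ[k] L) →* Equiv.Perm (MonicFactor G) := MonoidHom.toHomPerm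
    { toFun := fun σ => mapFactor σ.toRingEquiv (hmG σ)
      map_one' := funext fun b => Subtype.ext (by
        show map _ b.1 = b.1
        exact (congrArg (fun f : L →+* L => map f b.1) (RingHom.ext fun x => rfl)).trans (map_id b.1))
      map_mul' := fun σ τ => funext fun b => Subtype.ext (by
        show map _ b.1 = map _ (map _ b.1)
        rw [map_map]; rfl) }
  have hp : ∀ σ b, (p σ b).1 = mτ σ b.1 := fun σ b => rfl
  have hveq : ∀ σ m b, v (aN σ m) (p σ b) = v m b := fun σ m b =>
    val_map G W hG σ.toRingEquiv (hmG σ) (τW σ) (hτW σ) (hτU σ m) (hv m) (hv (aN σ m)) b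
  refine ⟨MonicFactor G, inferInstance, p, v, fun b => αL (bU G W b), hvmul, hveq, fun σ b => ?_, fun b => ?_,
    fun m => ⟨(c m : L), ?_⟩⟩
  · have hψf : (ψ σ).toRingEquiv.toRingHom.comp f.toRingHom = f.toRingHom :=
      IsLocalization.ringHom_ext (Submonoid.powers h) (RingHom.ext fun a => by
        show ψ σ (f (algebraMap A _ a)) = f (algebraMap A _ a)
        rw [hf]
        show ψ σ (ι (π a)) = ι (π a)
        rw [hψ, hfix])
    have key : (ψ σ).toRingEquiv.toRingHom.comp θ.toRingHom = θ.toRingHom.comp (mτ σ) :=
      MvPolynomial.ringHom_ext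
        (fun l => by
          show ψ σ (θ (C l)) = θ (map _ (C l))
          rw [map_C, show θ (C l) = algebraMap L F l from θ.commutes _, hψL]
          exact (θ.commutes _).symm)
        (fun i => by
          show ψ σ (θ (X i)) = θ (map _ (X i))
          rw [map_X]
          simp only [θ, aeval_X]
          exact DFunLike.congr_fun hψf _)
    show ψ σ (αL (algebraMap _ W b.1)) = αL (algebraMap _ W (p σ b).1)
    rw [hαL, hαL, hp]
    exact DFunLike.congr_fun key b.1
  · exact ((bU G W b).isUnit.map αL).ne_zero
  · have h1 : αL (U m : W) = ι (MonoidAlgebra.single m 1) := by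
      rw [hU, hαβL, E.apply_symm_apply]
    rw [← h1, hv m, Units.val_mul, map_mul]
    congr 1
    · show αL (algebraMap _ W (C (c m : L) : MvPolynomial (Fin n) L)) = _
      rw [hαL]; exact θ.commutes _
    · exact map_facProd G W αL.toRingHom (v m)

end Groth.Agent.RetractRat26
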